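import Cfsg.Agent.H1.Factor
import Cfsg.Agent.H7.Basic
import Cfsg.Agent.H8.Replace
import Cfsg.Agent.S0572
import Cfsg.Prelude.Def_BaumannBlocks

/-!
# Thompson's replacement theorem, the Chermak-Delgado lattice, centrally large subgroups
-/

set_option autoImplicit false
set_option linter.dupNamespace false
set_option linter.unusedSectionVars false

open scoped commutatorElement
open Subgroup Finset

namespace Cfsg.H4

universe u

variable {G : Type u} [Group G]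

local notation "C " X:max => centralizer ((X : Subgroup G) : Set G)

theorem card_mul_le_sup_inf [Finite G] (A B : Subgroup G) :
    Nat.card A * Nat.card B ≤ Nat.card ↥(A ⊔ B) * Nat.card ↥(A ⊓ B) := by
  rw [← H1.card_mul_set_mul_card_inf]
  refine Nat.mul_le_mul_right _ (Nat.card_mono (Set.toFinite _) ?_)
  rintro _ ⟨a, ha, b, hb, rfl⟩
  exact mul_mem_sup ha hb

theorem isMulCommutative_iff_le {A : Subgroup G} : IsMulCommutative A ↔ A ≤ C A :=
  le_centralizer_iff_isMulCommutative.symm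

theorem sup_le_centralizer_sup {A B : Subgroup G} (hA : A ≤ C A) (hB : B ≤ C B) (h : A ≤ C B) :
    A ⊔ B ≤ C (A ⊔ B) := by
  rw [H7.centralizer_sup]
  exact sup_le (le_inf hA h) (le_inf (le_centralizer_iff.mp h) hB)

theorem perm_dedekind {A B X : Subgroup G} (h : H1.Perm A B) (hA : A ≤ X) :
    (A ⊔ B) ⊓ X = A ⊔ (B ⊓ X) := by
  refine le_antisymm (fun x hx => ?_) (sup_le (le_inf le_sup_left hA)
    (inf_le_inf_right _ le_sup_right))
  obtain ⟨a, ha, b, hb, rfl⟩ := h x hx.1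
  exact mul_mem_sup ha ⟨hb, (mul_mem_cancel_left (hA ha)).mp hx.2⟩

theorem commute_of_perm {A B : Subgroup G} (h : H1.Perm A B) (hA : A ≤ C A) (hB : B ≤ C B)
    {a b x : G} (ha : a ∈ A ⊔ B) (hb : b ∈ A ⊔ B) (hx : x ∈ A ⊔ B) : Commute ⁅a, x⁆ ⁅b, x⁆ := by
  have := isMulCommutative_iff_le.mpr hA
  have := isMulCommutative_iff_le.mpr hB
  have h1 := Agent.S0572.result _ _ h.fac_subgroupOf
  rw [derivedSeries_succ, derivedSeries_one, commutator_eq_bot_iff_le_centralizer] at h1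
  exact congrArg Subtype.val
    (h1 (commutator_mem_commutator (mem_top (⟨b, hb⟩ : ↥(A ⊔ B))) (mem_top ⟨x, hx⟩)) _
      (commutator_mem_commutator (mem_top (⟨a, ha⟩ : ↥(A ⊔ B))) (mem_top ⟨x, hx⟩)))

/-- The subgroup generated by the commutators of the elements of `A` with `x`. -/
def thM (A : Subgroup G) (x : G) : Subgroup G := closure {y | ∃ a ∈ A, ⁅a, x⁆ = y}

/-- Thompson's replacement of `A`. -/
def thR (A : Subgroup G) (x : G) : Subgroup G := thM A x ⊔ (A ⊓ C (thM A x))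

/-- A potential measuring how central a subgroup lies. -/
noncomputable def ucPot (A : Subgroup G) : ℕ :=
  ∑ i ∈ range (Group.nilpotencyClass G + 1), Nat.card ↥(A ⊓ Subgroup.upperCentralSeries G i)

theorem thM_le {A N : Subgroup G} {x : G} (h : ∀ a ∈ A, ⁅a, x⁆ ∈ N) : thM A x ≤ N :=
  (closure_le _).mpr fun _ ⟨a, ha, e⟩ => e ▸ h a ha

theorem mem_thM {A : Subgroup G} {x a : G} (ha : a ∈ A) : ⁅a, x⁆ ∈ thM A x :=
  subset_closure ⟨a, ha, rfl⟩

theorem thM_le_sup_cj (A : Subgroup G) (x : G) : thM A x ≤ A ⊔ H7.cj x A := thM_le fun a ha => by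
  rw [commutatorElement_def, mul_assoc, mul_assoc, ← mul_assoc x]
  exact mul_mem_sup ha (H7.conj_mem_cj (inv_mem ha))

theorem thR_le_sup_cj (A : Subgroup G) (x : G) : thR A x ≤ A ⊔ H7.cj x A :=
  sup_le (thM_le_sup_cj A x) (inf_le_left.trans le_sup_left)

section Thompson

variable {A : Subgroup G} {x : G} (hA : A ≤ centralizer (A : Set G))
  (hM : ∀ a ∈ A, ∀ b ∈ A, Commute ⁅a, x⁆ ⁅b, x⁆)
include hM

theorem thM_comm : thM A x ≤ C (thM A x) :=
  thM_le fun a ha => zpowers_le.mp (le_centralizer_iff.mp (thM_le fun b hb => by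
    rw [zpowers_eq_closure, centralizer_closure, mem_centralizer_singleton_iff]
    exact hM b hb a ha))

include hA

theorem thR_comm : thR A x ≤ C (thR A x) :=
  sup_le_centralizer_sup (thM_comm hM) (inf_le_left.trans (hA.trans (H7.centralizer_anti inf_le_left)))
    (le_centralizer_iff.mp inf_le_right)

variable [Finite G]

theorem thompson_relIndex_le {E E' : Subgroup G} (hE : E ≤ A) (hu : ∀ a ∈ E, ⁅a, x⁆ ∈ E') :
    (C (thM A x)).relIndex E ≤ (C A).relIndex E' := by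
  refine H8.relIndex_le_of_map (fun a => ⁅a, x⁆) hu fun a ha a' ha' h => ?_
  have ha := hE ha
  have ha' := hE ha'
  have hw : a⁻¹ * a' ∈ A := mul_mem (inv_mem ha) ha'
  have h1 : ⁅a, x⁆⁻¹ * ⁅a', x⁆ = ⁅a⁻¹ * a', x⁆ := by
    have h2 := h a ha
    rw [(hM a ha a' ha').inv_left.eq] at h2 ⊢
    calc _ = a⁻¹ * (a * (⁅a', x⁆ * ⁅a, x⁆⁻¹)) := by group
      _ = _ := by rw [h2]; simp only [commutatorElement_def]; group
  rw [h1] at h
  generalize a⁻¹ * a' = w at h hw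
  refine zpowers_le.mp (le_centralizer_iff.mp (thM_le fun b hb => ?_))
  rw [zpowers_eq_closure, centralizer_closure, mem_centralizer_singleton_iff]
  have h2 := h b hb
  have h3 := (hM w hw b hb).eq
  have h4 := hA hw b hb
  calc ⁅b, x⁆ * w = ⁅w, x⁆ * ⁅b, x⁆ * ⁅w, x⁆⁻¹ * w := by rw [h3]; group
    _ = ⁅w, x⁆ * b * x * b⁻¹ * x⁻¹ * ⁅w, x⁆⁻¹ * w := by simp only [commutatorElement_def]; group
    _ = b * w * x * (b * w)⁻¹ * w * x⁻¹ := by
      rw [← h2]; simp only [commutatorElement_def]; group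
    _ = _ := by rw [h4]; simp only [commutatorElement_def]; group

theorem thR_card_inf (hMA : thM A x ⊓ C A ≤ A) {N N' : Subgroup G}
    (hu : ∀ a ∈ N', ⁅a, x⁆ ∈ N) :
    (C (thM A x)).relIndex (A ⊓ N') * Nat.card ↥(C (thM A x) ⊓ (A ⊓ N)) ≤
      Nat.card ↥(thR A x ⊓ N) := by
  have h1 := thompson_relIndex_le hA hM (E := A ⊓ N') (E' := thM A x ⊓ N) inf_le_left
    fun a ha => ⟨mem_thM ha.1, hu a ha.2⟩
  have h2 := card_mul_le_sup_inf (thM A x ⊓ N) (C (thM A x) ⊓ (A ⊓ N))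
  have h3 : Nat.card ↥(thM A x ⊓ N ⊔ C (thM A x) ⊓ (A ⊓ N)) ≤ Nat.card ↥(thR A x ⊓ N) :=
    card_le_of_le (sup_le (inf_le_inf_right _ le_sup_left)
      fun y hy => ⟨mem_sup_right ⟨hy.2.1, hy.1⟩, hy.2.2⟩)
  have h4 : thM A x ⊓ N ⊓ (C (thM A x) ⊓ (A ⊓ N)) = C A ⊓ (thM A x ⊓ N) :=
    le_antisymm (fun y hy => ⟨hA hy.2.2.1, hy.1⟩)
      fun y hy => ⟨hy.2, thM_comm hM hy.2.1, hMA ⟨hy.2.1, hy.1⟩, hy.2.2⟩
  rw [h4, ← H7.relIndex_mul_card_inf (C A) (thM A x ⊓ N), mul_right_comm] at h2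
  exact (Nat.mul_le_mul_right _ h1).trans ((Nat.le_of_mul_le_mul_right h2 Nat.card_pos).trans h3)

theorem card_inf_le_thR (hMA : thM A x ⊓ C A ≤ A) (N : Subgroup G) [hN : N.Normal] :
    Nat.card ↥(A ⊓ N) ≤ Nat.card ↥(thR A x ⊓ N) := by
  rw [← H7.relIndex_mul_card_inf (C (thM A x)) (A ⊓ N)]
  refine thR_card_inf hA hM hMA fun a ha => ?_
  rw [commutatorElement_def, mul_assoc, mul_assoc, ← mul_assoc x]
  exact mul_mem ha (hN.conj_mem _ (inv_mem ha) x)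

theorem card_le_thR (hMA : thM A x ⊓ C A ≤ A) : Nat.card A ≤ Nat.card (thR A x) := by
  have := card_inf_le_thR hA hM hMA ⊤
  rwa [inf_top_eq, inf_top_eq] at this

theorem ucPot_lt_thR [Group.IsNilpotent G] (hMA : thM A x ⊓ C A ≤ A)
    (hx : x ∉ normalizer (A : Set G)) : ucPot A < ucPot (thR A x) := by
  classical
  have h1 : ¬ A ⊓ Subgroup.upperCentralSeries G (Group.nilpotencyClass G) ≤ C (thM A x) := fun h => by
    rw [Subgroup.upperCentralSeries_nilpotencyClass, inf_top_eq, le_centralizer_iff] at h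
    refine hx (H7.mem_normalizer_of_conj_mem fun a ha => ?_)
    have h2 := hMA ⟨mem_thM (inv_mem ha), h (mem_thM (inv_mem ha))⟩
    rwa [commutatorElement_def, mul_assoc, mul_assoc, mul_mem_cancel_left (inv_mem ha), inv_inv,
      ← mul_assoc] at h2
  have h2 : ∃ i, ¬ A ⊓ Subgroup.upperCentralSeries G i ≤ C (thM A x) := ⟨_, h1⟩
  have h3 := Nat.find_spec h2
  have h4 := Nat.find_min' h2 h1
  rcases h : Nat.find h2 with _ | i
  · simp [h] at h3
  have h5 := not_not.mp (Nat.find_min h2 (m := i) (by omega))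
  rw [h] at h3 h4
  refine sum_lt_sum (fun i _ => card_inf_le_thR hA hM hMA _) ⟨i, mem_range.mpr (by omega), ?_⟩
  have h6 := thR_card_inf hA hM hMA (N := Subgroup.upperCentralSeries G i)
    (N' := Subgroup.upperCentralSeries G (i + 1)) fun a ha => ha x
  rw [inf_eq_right.mpr h5] at h6
  refine lt_of_lt_of_le ((Nat.lt_mul_iff_one_lt_left Nat.card_pos).mpr ?_) h6
  have h7 := mt relIndex_eq_one.mp h3
  have h8 : (C (thM A x)).relIndex (A ⊓ Subgroup.upperCentralSeries G (i + 1)) ≠ 0 :=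
    index_ne_zero_of_finite
  omega

end Thompson

theorem exists_max_ucPot [Finite G] {P : Subgroup G → Prop} (h : ∃ A, P A) :
    ∃ A, P A ∧ ∀ B, P B → ucPot B ≤ ucPot A :=
  Set.exists_max_image {A | P A} ucPot (Set.toFinite _) h

theorem maxAb_iff {A : Subgroup G} : A ∈ maxAbelianSubgroups G ↔
    A ≤ C A ∧ ∀ B : Subgroup G, B ≤ C B → Nat.card B ≤ Nat.card A := by
  simp only [maxAbelianSubgroups, isMulCommutative_iff_le, Set.mem_ofPred_eq]

variable [Finite G]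

theorem centralizer_eq_of_maxAb {A : Subgroup G} (h : A ∈ maxAbelianSubgroups G) : C A = A := by
  obtain ⟨h1, h2⟩ := maxAb_iff.mp h
  refine le_antisymm (fun x hx => ?_) h1
  have h3 := H7.eq_of_le_of_card_le le_sup_left (h2 _ (sup_le_centralizer_sup h1
    (isMulCommutative_iff_le.mp inferInstance) (le_centralizer_iff.mp (zpowers_le.mpr hx))))
  exact h3 ▸ mem_sup_right (mem_zpowers x)

theorem exists_maxAb : ∃ A, A ∈ maxAbelianSubgroups G := by
  obtain ⟨A, h1, h2⟩ := Set.exists_max_image {A : Subgroup G | A ≤ C A} (fun A => Nat.card A)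
    (Set.toFinite _) ⟨⊥, bot_le (α := Subgroup G)⟩
  exact ⟨A, maxAb_iff.mpr ⟨h1, h2⟩⟩

theorem exists_normal_maxAb [Group.IsNilpotent G] (h : IsMulCommutative (commutator G))
    {A : Subgroup G} (hA : A ∈ maxAbelianSubgroups G) :
    ∃ B ∈ maxAbelianSubgroups G, B.Normal ∧ B ≤ normalClosure (A : Set G) := by
  obtain ⟨B, ⟨h1, h2⟩, h3⟩ := exists_max_ucPot
    (P := fun B => B ∈ maxAbelianSubgroups G ∧ B ≤ normalClosure (A : Set G))
    ⟨A, hA, le_normalClosure⟩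
  refine ⟨B, h1, H7.normal_of_le_normalizer_top fun x _ => ?_, h2⟩
  by_contra hx
  obtain ⟨h4, h5⟩ := maxAb_iff.mp h1
  have hM : ∀ a ∈ B, ∀ b ∈ B, Commute ⁅a, x⁆ ⁅b, x⁆ := fun a _ b _ =>
    H1.isMulCommutative_iff_forall.mp h _ (commutator_mem_commutator (mem_top _) (mem_top _)) _
      (commutator_mem_commutator (mem_top _) (mem_top _))
  have hMA : thM B x ⊓ C B ≤ B := inf_le_right.trans (centralizer_eq_of_maxAb h1).le
  exact (ucPot_lt_thR h4 hM hMA hx).not_ge (h3 _ ⟨maxAb_iff.mpr ⟨thR_comm h4 hM,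
    fun D hD => (h5 D hD).trans (card_le_thR h4 hM hMA)⟩, (thR_le_sup_cj B x).trans
      (sup_le h2 (H7.cj_le_of_le (le_normalizer_of_normal (mem_top x)) h2))⟩)

/-- Members of the Chermak-Delgado lattice. -/
def CDL (Q : Subgroup G) : Prop :=
  ∀ R : Subgroup G, Nat.card R * Nat.card (C R) ≤ Nat.card Q * Nat.card (C Q)

/-- Centrally large subgroups. -/
def CL (Q : Subgroup G) : Prop := CDL Q ∧ C Q ≤ Q

/-- Minimal centrally large subgroups. -/
def MCL (Q : Subgroup G) : Prop := CL Q ∧ ∀ R : Subgroup G, R ≤ Q → CL R → R = Q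

theorem eq_sSup_iff {f : Subgroup G → ℕ} {Q : Subgroup G} :
    f Q = sSup {k : ℕ | ∃ R, f R = k} ↔ ∀ R, f R ≤ f Q := by
  have hb : BddAbove {k : ℕ | ∃ R, f R = k} := (Set.finite_range f).bddAbove
  exact ⟨fun h R => h ▸ le_csSup hb ⟨R, rfl⟩, fun h => le_antisymm (le_csSup hb ⟨Q, rfl⟩)
    (csSup_le ⟨_, Q, rfl⟩ fun _ ⟨R, e⟩ => e ▸ h R)⟩

theorem isCentralizerLarge_iff {Q : Subgroup G} : IsCentralizerLarge Q ↔ CDL Q :=
  eq_sSup_iff (f := fun R => Nat.card R * Nat.card (C R))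

namespace CDL

variable {Q R : Subgroup G}

theorem of_le (h : CDL Q) (h1 : Nat.card Q * Nat.card (C Q) ≤ Nat.card R * Nat.card (C R)) :
    CDL R := fun X => (h X).trans h1

theorem centralizer (h : CDL Q) : CDL (C Q) := h.of_le (by
  rw [mul_comm]
  exact Nat.mul_le_mul_left _ (card_le_of_le (le_centralizer_iff.mp le_rfl)))

theorem cc (h : CDL Q) : C (C Q) = Q := by
  have := h (C Q)
  rw [mul_comm] at this
  exact (H7.eq_of_le_of_card_le (le_centralizer_iff.mp le_rfl)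
    (Nat.le_of_mul_le_mul_right this Nat.card_pos)).symm

theorem aux (hQ : CDL Q) (hR : CDL R) : H1.Perm Q R ∧ CDL (Q ⊔ R) ∧ CDL (Q ⊓ R) ∧
    C (Q ⊓ R) = C Q ⊔ C R := by
  have h1 := card_mul_le_sup_inf Q R
  have h2 := card_mul_le_sup_inf (C Q) (C R)
  have h3 : C Q ⊔ C R ≤ C (Q ⊓ R) :=
    sup_le (H7.centralizer_anti inf_le_left) (H7.centralizer_anti inf_le_right)
  have h4 := card_le_of_le h3
  have h5 := hQ (Q ⊔ R)
  have h6 := hR (Q ⊓ R)
  have h7 := hR (Q ⊔ R)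
  have h8 := hQ (Q ⊓ R)
  rw [← H7.centralizer_sup] at h2
  have p1 : 0 < Nat.card ↥(Q ⊔ R) := Nat.card_pos
  have p2 : 0 < Nat.card ↥(Q ⊓ R) := Nat.card_pos
  have p3 : 0 < Nat.card (C (Q ⊔ R)) := Nat.card_pos
  have p4 : 0 < Nat.card ↥(C Q ⊔ C R) := Nat.card_pos
  have h9 := Nat.mul_le_mul h5 h6
  refine ⟨(H1.perm_of_card_le le_sup_left le_sup_right ?_).1, hQ.of_le ?_, hR.of_le ?_,
    (H7.eq_of_le_of_card_le h3 ?_).symm⟩
  all_goals
    generalize Nat.card Q = q, Nat.card R = r, Nat.card (C Q) = q', Nat.card (C R) = r',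
      Nat.card ↥(Q ⊔ R) = s, Nat.card ↥(Q ⊓ R) = i, Nat.card (C (Q ⊔ R)) = s',
      Nat.card (C (Q ⊓ R)) = i', Nat.card ↥(C Q ⊔ C R) = j at *
    have h10 := Nat.mul_le_mul h1 (h2.trans (Nat.mul_le_mul_right _ h4))
  · refine Nat.le_of_mul_le_mul_right ?_ (Nat.mul_pos (p4.trans_le h4) p3)
    have := Nat.mul_le_mul_left (q * r) (h2.trans (Nat.mul_le_mul_right _ h4))
    linarith
  · refine Nat.le_of_mul_le_mul_right ?_ (Nat.mul_pos p2 (p4.trans_le h4))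
    have := Nat.mul_le_mul_left (q * q') h6
    linarith
  · refine Nat.le_of_mul_le_mul_right ?_ (Nat.mul_pos p1 p3)
    have := Nat.mul_le_mul_left (r * r') h5
    linarith
  · refine Nat.le_of_mul_le_mul_right ?_ (Nat.mul_pos (Nat.mul_pos p1 p2) p3)
    have := Nat.mul_le_mul h1 h2
    linarith

theorem perm (hQ : CDL Q) (hR : CDL R) : H1.Perm Q R := (hQ.aux hR).1
theorem sup (hQ : CDL Q) (hR : CDL R) : CDL (Q ⊔ R) := (hQ.aux hR).2.1
theorem inf (hQ : CDL Q) (hR : CDL R) : CDL (Q ⊓ R) := (hQ.aux hR).2.2.1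
theorem centralizer_inf (hQ : CDL Q) (hR : CDL R) : C (Q ⊓ R) = C Q ⊔ C R := (hQ.aux hR).2.2.2

theorem cj (h : CDL Q) (g : G) : CDL (H7.cj g Q) :=
  h.of_le (by rw [← H7.cj_centralizer, H7.card_cj, H7.card_cj])

end CDL

theorem exists_cl : ∃ Q : Subgroup G, CL Q := by
  obtain ⟨Q, -, h⟩ := Set.exists_max_image Set.univ
    (fun Q : Subgroup G => Nat.card Q * Nat.card (C Q)) (Set.toFinite _) ⟨⊥, trivial⟩
  have hQ : CDL Q := fun R => h R trivial
  refine ⟨_, hQ.sup hQ.centralizer, ?_⟩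
  exact (H7.centralizer_anti le_sup_left).trans le_sup_right

theorem card_center_eq (Q : Subgroup G) : Nat.card (center Q) = Nat.card ↥(Q ⊓ C Q) := by
  rw [← H7.map_center_subtype, H7.card_map_subtype]

theorem isCentrallyLarge_iff {Q : Subgroup G} : IsCentrallyLarge Q ↔ CL Q := by
  refine (eq_sSup_iff (f := fun R : Subgroup G => Nat.card R * Nat.card (center R))).trans ?_
  simp only [card_center_eq]
  have h0 : ∀ R : Subgroup G, Nat.card R * Nat.card ↥(R ⊓ C R) ≤ Nat.card R * Nat.card (C R) :=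
    fun R => Nat.mul_le_mul_left _ (card_le_of_le inf_le_right)
  refine ⟨fun h => ?_, fun h R => ?_⟩
  · obtain ⟨T, h1, h2⟩ := exists_cl (G := G)
    have h3 := h T
    rw [inf_eq_right.mpr h2] at h3
    refine ⟨h1.of_le (h3.trans (h0 Q)), inf_eq_right.mp (H7.eq_of_le_of_card_le inf_le_right ?_)⟩
    exact Nat.le_of_mul_le_mul_left ((h1 Q).trans h3) Nat.card_pos
  · rw [inf_eq_right.mpr h.2]
    exact (h0 R).trans (h.1 R)

theorem isMinimalCentrallyLarge_iff {Q : Subgroup G} : IsMinimalCentrallyLarge Q ↔ MCL Q := by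
  simp only [IsMinimalCentrallyLarge, MCL, isCentrallyLarge_iff]

namespace CL

variable {Q R A : Subgroup G}

theorem comm (h : CL Q) : C Q ≤ C (C Q) := h.2.trans h.1.cc.ge

theorem sup (hQ : CL Q) (hR : CDL R) : CL (Q ⊔ R) :=
  ⟨hQ.1.sup hR, (H7.centralizer_anti le_sup_left).trans (hQ.2.trans le_sup_left)⟩

theorem cj (h : CL Q) (g : G) : CL (H7.cj g Q) :=
  ⟨h.1.cj g, by rw [← H7.cj_centralizer]; exact H7.cj_mono h.2⟩

theorem sup_sSup (hQ : CL Q) {S : Set (Subgroup G)} (h : ∀ T, CL T → ∀ R ∈ S, CL (T ⊔ R)) :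
    CL (Q ⊔ sSup S) := by
  obtain ⟨T, h1, h2⟩ := Finite.exists_le_maximal (p := fun T => CL T ∧ T ≤ Q ⊔ sSup S) (a := Q)
    ⟨hQ, le_sup_left⟩
  have : T = Q ⊔ sSup S := le_antisymm h2.1.2 (sup_le h1 (sSup_le fun R hR => le_sup_right.trans
    (h2.2 ⟨h T h2.1.1 R hR, sup_le h2.1.2 ((le_sSup hR).trans le_sup_right)⟩ le_sup_left)))
  exact this ▸ h2.1.1

theorem sSup {S : Set (Subgroup G)} (hS : S.Nonempty) (h : ∀ R ∈ S, CL R) : CL (sSup S) := by
  obtain ⟨Q, hQ⟩ := hS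
  have := (h Q hQ).sup_sSup (S := S) fun T hT R hR => hT.sup (h R hR).1
  rwa [sup_eq_right.mpr (le_sSup hQ)] at this

theorem exists_mcl (hQ : CL Q) : ∃ R, R ≤ Q ∧ MCL R := by
  obtain ⟨R, h1, h2⟩ := Finite.exists_le_minimal (p := CL) hQ
  exact ⟨R, h1, h2.1, fun T h3 h4 => le_antisymm h3 (h2.2 h4 h3)⟩

theorem maxAb_aux (hQ : CL Q) (hA : A ∈ maxAbelianSubgroups G) : H1.Perm Q A ∧ CL (Q ⊔ A) ∧
    ∀ x ∈ (Q ⊔ A) ⊓ C (Q ⊓ A), ∃ z ∈ C Q, ∃ a ∈ A, x = z * a := by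
  have hC := centralizer_eq_of_maxAb hA
  obtain ⟨hA1, hA2⟩ := maxAb_iff.mp hA
  have hB : C Q ⊔ Q ⊓ A ≤ C (C Q ⊔ Q ⊓ A) := sup_le_centralizer_sup hQ.comm
    (inf_le_right.trans (hA1.trans (H7.centralizer_anti inf_le_right)))
    (H7.centralizer_anti inf_le_left)
  have h1 := (card_mul_le_sup_inf (C Q) (Q ⊓ A))
  rw [← inf_assoc, inf_eq_left.mpr hQ.2] at h1
  have h2 := hA2 _ hB
  have h3 := card_mul_le_sup_inf Q A
  have h4 := hQ.1 (Q ⊔ A)
  have h5 : C (Q ⊔ A) = C Q ⊓ A := by rw [H7.centralizer_sup, hC]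
  rw [h5] at h4
  have p1 : 0 < Nat.card ↥(C Q ⊓ A) := Nat.card_pos
  have p2 : 0 < Nat.card ↥(Q ⊓ A) := Nat.card_pos
  have p3 : 0 < Nat.card Q := Nat.card_pos
  have h6 := Nat.mul_le_mul_left (Nat.card Q) (h1.trans (Nat.mul_le_mul_right _ h2))
  have h7 := Nat.mul_le_mul_right (Nat.card ↥(C Q ⊓ A)) h3
  have h8 := Nat.mul_le_mul_right (Nat.card ↥(Q ⊓ A)) h4
  have hp : H1.Perm Q A := (H1.perm_of_card_le le_sup_left le_sup_right
    (Nat.le_of_mul_le_mul_right (by linarith) p1)).1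
  refine ⟨hp, ⟨hQ.1.of_le ?_, h5.le.trans (inf_le_right.trans le_sup_right)⟩, fun x hx => ?_⟩
  · rw [h5]
    exact Nat.le_of_mul_le_mul_right (by linarith) p2
  · have h9 : C Q ⊔ Q ⊓ A ∈ maxAbelianSubgroups G := maxAb_iff.mpr ⟨hB, fun D hD => (hA2 D hD).trans
      (Nat.le_of_mul_le_mul_right (c := Nat.card Q * Nat.card ↥(C Q ⊓ A)) (by
        have := Nat.mul_le_mul_left (Nat.card Q) h1
        linarith) (Nat.mul_pos p3 p1))⟩
    obtain ⟨q, hq, a, ha, rfl⟩ := hp x hx.1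
    have h10 : q ∈ C Q ⊔ Q ⊓ A := by
      rw [← centralizer_eq_of_maxAb h9, H7.centralizer_sup, hQ.1.cc]
      exact ⟨hq, (mul_mem_cancel_right (H7.centralizer_anti inf_le_right (hA1 ha))).mp hx.2⟩
    obtain ⟨z, hz, b, hb, rfl⟩ := (H7.mem_sup_of_le_normalizer
      (H7.le_normalizer_of_le_centralizer (H7.centralizer_anti inf_le_left))).mp h10
    exact ⟨z, hz, b * a, mul_mem hb.2 ha, mul_assoc _ _ _⟩

theorem sup_le_of_maxAb (hQ : CL Q) (hA : A ∈ maxAbelianSubgroups G) :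
    C Q ⊔ A ≤ (Q ⊔ A) ⊓ C (Q ⊓ A) :=
  sup_le (le_inf (hQ.2.trans le_sup_left) (H7.centralizer_anti inf_le_left))
    (le_inf le_sup_right ((maxAb_iff.mp hA).1.trans (H7.centralizer_anti inf_le_right)))

theorem perm_maxAb (hQ : CL Q) (hA : A ∈ maxAbelianSubgroups G) : H1.Perm (C Q) A :=
  fun x hx => (hQ.maxAb_aux hA).2.2 x (hQ.sup_le_of_maxAb hA hx)

theorem sup_J (hQ : CL Q) : CL (Q ⊔ thompsonSubgroupA G) :=
  hQ.sup_sSup fun _ hT _ hA => (hT.maxAb_aux hA).2.1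

theorem jt_le (hQ : CL Q) : C (thompsonSubgroupA G ⊓ C (thompsonSubgroupA G)) ≤
    Q ⊔ thompsonSubgroupA G := by
  rw [← hQ.sup_J.1.cc]
  obtain ⟨A, hA⟩ := exists_maxAb (G := G)
  refine H7.centralizer_anti (le_inf ?_ (H7.centralizer_anti le_sup_right))
  exact (H7.centralizer_anti ((le_sSup hA).trans le_sup_right)).trans
    ((centralizer_eq_of_maxAb hA).le.trans (le_sSup hA))

end CL

namespace MCL

variable {Q R : Subgroup G}

theorem aux (hQ : MCL Q) (hR : CL R) : Q ⊓ R ⊔ C Q = Q ∧ C R ⊓ Q ≤ C Q := by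
  have h1 : C (Q ⊓ R ⊔ C Q) = C Q ⊔ C R ⊓ Q := by
    rw [H7.centralizer_sup, hQ.1.1.centralizer_inf hR.1, hQ.1.1.cc,
      perm_dedekind (hQ.1.1.centralizer.perm hR.1.centralizer) hQ.1.2]
  have h2 := hQ.2 _ (sup_le inf_le_left hQ.1.2) ⟨(hQ.1.1.inf hR.1).sup hQ.1.1.centralizer,
    h1.le.trans (sup_le le_sup_right (le_sup_of_le_left (le_inf inf_le_right
      (inf_le_left.trans hR.2))))⟩
  rw [h2] at h1
  exact ⟨h2, le_sup_right.trans h1.ge⟩

theorem card_mul (hQ : MCL Q) (hR : CL R) :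
    Nat.card Q * Nat.card ↥(C Q ⊓ R) = Nat.card ↥(Q ⊓ R) * Nat.card (C Q) := by
  have := ((hQ.1.1.inf hR.1).perm hQ.1.1.centralizer).card
  rwa [(hQ.aux hR).1, inf_right_comm, inf_eq_right.mpr hQ.1.2] at this

theorem inf_eq (hQ : MCL Q) (hR : MCL R) : C Q ⊓ R = C R ⊓ Q :=
  le_antisymm (le_inf (hR.aux hQ.1).2 (inf_le_left.trans hQ.1.2))
    (le_inf (hQ.aux hR.1).2 (inf_le_left.trans hR.1.2))

theorem card_eq (hQ : MCL Q) (hR : MCL R) :
    Nat.card Q = Nat.card R ∧ Nat.card (C Q) = Nat.card (C R) := by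
  have h1 := hQ.card_mul hR.1
  have h2 := hR.card_mul hQ.1
  have h3 := le_antisymm (hR.1.1 Q) (hQ.1.1 R)
  rw [← hQ.inf_eq hR, inf_comm R] at h2
  have p1 : 0 < Nat.card ↥(C Q ⊓ R) := Nat.card_pos
  have h4 : Nat.card Q = Nat.card R := by
    refine Nat.mul_self_inj.mp (Nat.eq_of_mul_eq_mul_right p1 ?_)
    rw [mul_assoc, mul_assoc, h1, h2, mul_left_comm, h3, mul_left_comm]
  rw [h4] at h3
  exact ⟨h4, Nat.eq_of_mul_eq_mul_left Nat.card_pos h3⟩

theorem commutator_eq (hQ : MCL Q) (hR : CL R) : ⁅Q, Q⁆ = ⁅Q ⊓ R, Q ⊓ R⁆ := by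
  refine le_antisymm (commutator_le.mpr fun x hx y hy => ?_) (commutator_mono inf_le_left inf_le_left)
  have hp := (hQ.1.1.inf hR.1).perm hQ.1.1.centralizer
  obtain ⟨a, ha, z, hz, rfl⟩ := hp x ((hQ.aux hR).1.ge hx)
  obtain ⟨b, hb, w, hw, rfl⟩ := hp y ((hQ.aux hR).1.ge hy)
  convert commutator_mem_commutator ha hb using 1
  have h1 := hz _ hy
  have h2 := hw _ ha.1
  calc _ = a * (z * (b * w)) * z⁻¹ * a⁻¹ * (b * w)⁻¹ := by simp only [commutatorElement_def]; group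
    _ = a * b * w * (w * a)⁻¹ * b⁻¹ := by rw [← h1]; group
    _ = _ := by rw [← h2]; simp only [commutatorElement_def]; group

theorem of_card_le (hQ : MCL Q) (hR : CL R) (h : Nat.card R ≤ Nat.card Q) : MCL R := by
  obtain ⟨T, h1, h2⟩ := hR.exists_mcl
  exact H7.eq_of_le_of_card_le h1 (h.trans (hQ.card_eq h2).1.le) ▸ h2

theorem comm (hQ : MCL Q) (h : Q ≤ C Q) (hR : MCL R) : R ≤ C R := by
  rw [← commutator_eq_bot_iff_le_centralizer] at h ⊢
  rw [hR.commutator_eq hQ.1, inf_comm, ← hQ.commutator_eq hR.1, h]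

theorem iff_maxAb (hQ : MCL Q) (h : Q ≤ C Q) : MCL R ↔ R ∈ maxAbelianSubgroups G := by
  have h1 : ∀ B : Subgroup G, B ≤ C B → Nat.card B ≤ Nat.card Q := fun B hB => by
    have := (Nat.mul_le_mul_left _ (card_le_of_le hB)).trans (hQ.1.1 B)
    rwa [le_antisymm hQ.1.2 h, Nat.mul_self_le_mul_self_iff] at this
  refine ⟨fun hR => maxAb_iff.mpr ⟨hQ.comm h hR, (hQ.card_eq hR).1 ▸ h1⟩, fun hR => ?_⟩
  have h2 := centralizer_eq_of_maxAb hR
  refine hQ.of_card_le ⟨hQ.1.1.of_le ?_, h2.le⟩ (h1 R h2.ge)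
  rw [h2, le_antisymm hQ.1.2 h]
  exact Nat.mul_self_le_mul_self ((maxAb_iff.mp hR).2 Q h)

theorem cj (hQ : MCL Q) (g : G) : MCL (H7.cj g Q) := hQ.of_card_le (hQ.1.cj g) (H7.card_cj g Q).le

theorem replace [Group.IsNilpotent G] (hQ : MCL Q) {x : G}
    (hM : ∀ a ∈ C Q, ∀ b ∈ C Q, Commute ⁅a, x⁆ ⁅b, x⁆) (hx : x ∉ normalizer (Q : Set G)) :
    ∃ R : Subgroup G, MCL R ∧ ucPot (C Q) < ucPot (C R) := by
  have hR := hQ.cj x
  have h1 := thR_le_sup_cj (C Q) x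
  have h2 := thM_le_sup_cj (C Q) x
  rw [H7.cj_centralizer] at h1 h2
  generalize H7.cj x Q = R at hR h1 h2
  have hp := hQ.1.1.centralizer.perm hR.1.1.centralizer
  have h3 : (C Q ⊔ C R) ⊓ Q ≤ C Q := by
    rw [perm_dedekind hp hQ.1.2]
    exact sup_le le_rfl (hQ.aux hR.1).2
  have hMA : thM (C Q) x ⊓ C (C Q) ≤ C Q := (inf_le_inf h2 hQ.1.1.cc.le).trans h3
  have h4 := thR_comm hQ.1.comm hM
  have h5 := card_le_thR hQ.1.comm hM hMA
  have h6 := ucPot_lt_thR hQ.1.comm hM hMA fun h =>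
    hx (hQ.1.1.cc ▸ H7.normalizer_le_normalizer_centralizer _ h)
  generalize thR (C Q) x = Z at *
  have h7 : Nat.card Q ≤ Nat.card (C Z) := by
    have h8 := card_mul_le_sup_inf (Q ⊓ R) Z
    have h9 : Nat.card ↥(Q ⊓ R ⊔ Z) ≤ Nat.card (C Z) := card_le_of_le (sup_le
      (le_centralizer_iff.mp (h1.trans (hQ.1.1.centralizer_inf hR.1.1).ge)) h4)
    have h10 : Nat.card ↥(Q ⊓ R ⊓ Z) ≤ Nat.card ↥(C Q ⊓ R) :=
      card_le_of_le fun y hy => ⟨h3 ⟨h1 hy.2, hy.1.1⟩, hy.1.2⟩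
    refine Nat.le_of_mul_le_mul_right ?_ (Nat.card_pos (α := ↥(C Q ⊓ R)))
    rw [hQ.card_mul hR.1]
    exact (Nat.mul_le_mul_left _ h5).trans (h8.trans (Nat.mul_le_mul h9 h10))
  have h8 : CDL Z := hQ.1.1.of_le (by rw [mul_comm]; exact Nat.mul_le_mul h5 h7)
  refine ⟨C Z, hQ.of_card_le ⟨h8.centralizer, h8.cc.le.trans h4⟩ ?_, by rwa [h8.cc]⟩
  refine Nat.le_of_mul_le_mul_left ?_ (Nat.card_pos (α := C Q))
  exact (Nat.mul_le_mul_right _ h5).trans ((hQ.1.1 Z).trans (mul_comm _ _).le)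

end MCL

theorem exists_mcl : ∃ Q : Subgroup G, MCL Q :=
  exists_cl.elim fun _ h => h.exists_mcl.imp fun _ h => h.2

theorem exists_mcl_normalized [Group.IsNilpotent G] : ∃ Q : Subgroup G, MCL Q ∧
    thompsonSubgroupA G ≤ normalizer (Q : Set G) ∧
      minimalCentrallyLargeJoin G ≤ normalizer (Q : Set G) := by
  obtain ⟨Q, hQ, h⟩ := Set.exists_max_image {Q : Subgroup G | MCL Q} (fun Q => ucPot (C Q))
    (Set.toFinite _) exists_mcl
  have key : ∀ B : Subgroup G, B ≤ C B → H1.Perm (C Q) B → B ≤ normalizer (Q : Set G) :=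
    fun B h1 h2 x hx => by
      by_contra h3
      obtain ⟨R, h4, h5⟩ := hQ.replace (fun a ha b hb => commute_of_perm h2 hQ.1.comm h1
        (mem_sup_left ha) (mem_sup_left hb) (mem_sup_right hx)) h3
      exact h5.not_ge (h R h4)
  refine ⟨Q, hQ, sSup_le fun A hA => key A (maxAb_iff.mp hA).1 (hQ.1.perm_maxAb hA),
    sSup_le fun R hR => ?_⟩
  have hR := isMinimalCentrallyLarge_iff.mp hR
  rw [← (hR.aux hQ.1).1]
  exact sup_le (inf_le_right.trans le_normalizer)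
    (key _ hR.1.comm (hQ.1.1.centralizer.perm hR.1.1.centralizer))

end Cfsg.H4
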