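import Cfsg.Agent.H4.Low
import Cfsg.Agent.H3.SL2

/-!
# The amalgam `S₄ *_{D₈} S₄` acting on 7 and on 15 points
-/

set_option autoImplicit false
set_option maxRecDepth 100000

namespace Cfsg.H4.Low

open Cfsg.H6 Equiv

variable {G : Type*} [Group G]

/-- Letters for four involutions. -/
def ev4 (b c s t : G) (l : ℕ) : G := [1, b, c, s, t].getD l 1

theorem good_ev4 {b c s t : G} (hb : b * b = 1) (hc : c * c = 1) (hs : s * s = 1)
    (ht : t * t = 1) : Good (ev4 b c s t) 17230332160 := by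
  refine ⟨rfl, fun l => ?_⟩
  rcases l with _ | _ | _ | _ | _ | l
  · exact inv_one.symm
  · exact eq_inv_of_mul_eq_one_left hb
  · exact eq_inv_of_mul_eq_one_left hc
  · exact eq_inv_of_mul_eq_one_left hs
  · exact eq_inv_of_mul_eq_one_left ht
  · have : invL 17230332160 (l + 5) = 0 := by
      unfold invL
      have h1 : 17230332160 < 2 ^ (8 * (l + 5)) :=
        lt_of_lt_of_le (by norm_num) (Nat.pow_le_pow_right two_pos (show 40 ≤ _ by omega))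
      have h2 : Nat.shiftRight 17230332160 (Nat.mul 8 (l + 5)) = 0 :=
        (Nat.shiftRight_eq_div_pow _ _).trans (Nat.div_eq_of_lt h1)
      rw [h2]; rfl
    rw [this]
    exact inv_one.symm

theorem closure_ev4 (b c s t : G) :
    Subgroup.closure {g | ∃ l < 5, ev4 b c s t l = g} = Subgroup.closure {b, c, s, t} := by
  apply le_antisymm <;> rw [Subgroup.closure_le]
  · rintro _ ⟨l, hl, rfl⟩
    interval_cases l
    · exact one_mem _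
    all_goals exact Subgroup.subset_closure (by simp [ev4])
  · rintro _ (rfl | rfl | rfl | rfl)
    exacts [Subgroup.subset_closure ⟨1, by decide, rfl⟩, Subgroup.subset_closure ⟨2, by decide, rfl⟩,
      Subgroup.subset_closure ⟨3, by decide, rfl⟩, Subgroup.subset_closure ⟨4, by decide, rfl⟩]

/-- The relations of the amalgam. -/
structure Amal (b c s t : G) : Prop where
  bb : b * b = 1
  cc : c * c = 1
  ss : s * s = 1
  tt : t * t = 1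
  bc : (b * c) ^ 4 = 1
  sb : s * b = b * s
  tc : t * c = c * t
  sc : (s * c) ^ 3 = 1
  tb : (t * b) ^ 3 = 1
  sz : s * (b * c) ^ 2 * s = (b * c) ^ 2 * b
  tz : t * (b * c) ^ 2 * t = (b * c) ^ 2 * c

/-- The relators as words. -/
def relsD : List (List ℕ) := [[0], [1, 2, 1, 2, 1, 2, 1, 2], [3, 1, 3, 1], [4, 2, 4, 2],
  [3, 2, 3, 2, 3, 2], [4, 1, 4, 1, 4, 1], [3, 1, 2, 1, 2, 3, 1, 2, 1, 2, 1],
  [4, 1, 2, 1, 2, 4, 1, 2, 1]]

theorem Amal.rels {b c s t : G} (h : Amal b c s t) : ∀ r ∈ relsD, evL (ev4 b c s t) r = 1 := by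
  obtain ⟨bb, cc, ss, tt, bc, sb, tc, sc, tb, sz, tz⟩ := h
  have e1 : s * b * s * b = 1 := by rw [sb, mul_assoc b, ss, mul_one, bb]
  have e2 : t * c * t * c = 1 := by rw [tc, mul_assoc c, tt, mul_one, cc]
  have bb' : ∀ x, b * (b * x) = x := fun x => by rw [← mul_assoc, bb, one_mul]
  have cc' : ∀ x, c * (c * x) = x := fun x => by rw [← mul_assoc, cc, one_mul]
  have e3 : s * (b * c) ^ 2 * s * (b * c) ^ 2 * b = 1 := by
    rw [sz]; simp [pow_two, mul_assoc, bb, bb', cc']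
  have e4 : t * (b * c) ^ 2 * t * (b * c * b) = 1 := by
    rw [tz]; simp [pow_two, mul_assoc, bb, bb', cc']
  simp only [pow_succ, pow_zero, one_mul, mul_assoc] at bc sc tb e1 e2 e3 e4
  simp [relsD, evL, ev4, bc, sc, tb, e1, e2, e3, e4]

/-- Parameters for degree 7. -/
def par7 : Par := ⟨5, 7, 17230332160, 168, [168],
    [[[0, 0, 0, 0, 1], [1, 2, 1, 3, 0], [2, 1, 2, 4, 2], [3, 4, 5, 1, 3], [4, 3, 6, 2, 6], [5,
    5, 3, 5, 5], [6, 6, 4, 6, 4]], [[0, 0, 0, 0, 1], [1, 2, 1, 3, 0], [2, 1, 2, 4, 2], [3, 4, 5,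
    1, 5], [4, 3, 6, 2, 4], [5, 5, 3, 5, 3], [6, 6, 4, 6, 6]]]⟩

/-- Parameters for degree 15. -/
def par15 : Par := ⟨5, 15, 17230332160, 360, [360],
    [[[0, 0, 0, 0, 1], [1, 2, 1, 3, 0], [2, 1, 2, 4, 2], [3, 4, 5, 1, 6], [4, 3, 7, 2, 8], [5,
    5, 3, 5, 9], [6, 10, 9, 11, 3], [7, 7, 4, 7, 12], [8, 13, 12, 12, 4], [9, 11, 6, 10, 5],
    [10, 6, 13, 9, 13], [11, 9, 14, 6, 11], [12, 14, 8, 8, 7], [13, 8, 10, 14, 10], [14, 12, 11,
    13, 14]]]⟩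

theorem start7 : start par7 [1, 2, 3] relsD (
    .br 0 4 (.alt (.ded 0 0 0 false .closed) (.new (.ded 1 3 2 false (.br 1 1 (.alt (.con 0 1 1
    0) (.alt (.ded 1 5 1 false (.con 1 4 0 1)) (.new (.ded 2 5 3 false (.ded 2 7 3 false (.br 1 3
    (.alt (.con 0 3 1 0) (.alt (.ded 1 6 0 false (.con 1 1 2 1)) (.alt (.ded 1 4 0 false (.con 2
    2 2 1)) (.new (.br 2 3 (.alt (.con 0 3 2 0) (.alt (.con 1 3 2 3) (.alt (.ded 2 2 0 false
    (.con 2 1 1 3)) (.alt (.con 3 3 2 1) (.new (.ded 3 2 2 false (.br 3 2 (.alt (.con 0 2 3 0)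
    (.alt (.con 1 2 3 1) (.alt (.con 2 2 3 2) (.alt (.ded 3 4 1 false (.con 3 3 1 3)) (.alt (.ded
    3 4 1 false (.con 3 3 1 3)) (.new (.ded 5 4 3 false (.ded 5 6 4 false (.br 3 4 (.alt (.con 0
    4 3 1) (.alt (.con 1 4 3 0) (.alt (.con 2 4 3 2) (.alt (.ded 5 3 3 false (.br 4 2 (.alt (.con
    0 2 4 0) (.alt (.con 1 2 4 1) (.alt (.con 2 2 4 2) (.alt (.con 3 2 4 5) (.alt (.ded 4 1 1
    false (.con 4 1 3 4)) (.alt (.con 5 2 4 3) (.new (.ded 6 1 3 false (.ded 6 4 3 false (.ded 6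
    7 6 false (.ded 6 0 0 false (.ded 5 0 0 false (.ded 4 0 0 false (.ded 3 0 0 false (.ded 2 0 0
    false (.ded 1 0 0 false (.ded 0 0 0 false (.leaf 0)))))))))))))))))))) (.alt (.ded 3 7 0
    false (.con 5 1 5 3)) (.alt (.ded 4 5 5 false (.br 4 2 (.alt (.con 0 2 4 0) (.alt (.con 1 2 4
    1) (.alt (.con 2 2 4 2) (.alt (.con 3 2 4 5) (.alt (.ded 4 1 1 false (.con 4 1 3 4)) (.alt
    (.con 5 2 4 3) (.new (.ded 6 1 3 false (.ded 6 3 3 false (.ded 6 4 3 false (.ded 6 0 0 false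
    (.ded 5 0 0 false (.ded 4 0 0 false (.ded 3 0 0 false (.ded 2 0 0 false (.ded 1 0 0 false
    (.ded 0 0 0 false (.leaf 1)))))))))))))))))))) (.new (.br 4 2 (.alt (.con 0 2 4 0) (.alt
    (.con 1 2 4 1) (.alt (.con 2 2 4 2) (.alt (.con 3 2 4 5) (.alt (.ded 4 1 1 false (.con 4 1 3
    4)) (.alt (.con 5 2 4 3) (.alt (.ded 6 1 3 false (.ded 4 3 1 false (.ded 4 7 2 false (.con 5
    1 5 4)))) .full))))))))))))))))))))))))))))))))))))))))))))))) = true := by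
  decide +kernel

theorem start15 : start par15 [1, 2, 3] relsD (
    .br 0 4 (.alt (.ded 0 0 0 false .closed) (.new (.ded 1 3 2 false (.br 1 1 (.alt (.con 0 1 1
    0) (.alt (.ded 1 5 1 false (.con 1 4 0 1)) (.new (.ded 2 5 3 false (.ded 2 7 3 false (.br 1 3
    (.alt (.con 0 3 1 0) (.alt (.ded 1 6 0 false (.con 1 1 2 1)) (.alt (.ded 1 4 0 false (.con 2
    2 2 1)) (.new (.br 2 3 (.alt (.con 0 3 2 0) (.alt (.con 1 3 2 3) (.alt (.ded 2 2 0 false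
    (.con 2 1 1 3)) (.alt (.con 3 3 2 1) (.new (.ded 3 2 2 false (.br 3 2 (.alt (.con 0 2 3 0)
    (.alt (.con 1 2 3 1) (.alt (.con 2 2 3 2) (.alt (.ded 3 4 1 false (.con 3 3 1 3)) (.alt (.ded
    3 4 1 false (.con 3 3 1 3)) (.new (.ded 5 4 3 false (.ded 5 6 4 false (.br 3 4 (.alt (.con 0
    4 3 1) (.alt (.con 1 4 3 0) (.alt (.con 2 4 3 2) (.alt (.ded 5 3 3 false (.br 4 2 (.alt (.con
    0 2 4 0) (.alt (.con 1 2 4 1) (.alt (.con 2 2 4 2) (.alt (.con 3 2 4 5) (.alt (.ded 4 1 1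
    false (.con 4 1 3 4)) (.alt (.con 5 2 4 3) (.new (.ded 6 1 3 false (.ded 6 4 3 false (.ded 6
    7 6 false (.ded 6 0 0 false (.ded 5 0 0 false (.ded 4 0 0 false (.ded 3 0 0 false (.ded 2 0 0
    false (.ded 1 0 0 false (.ded 0 0 0 false .closed))))))))))))))))))) (.alt (.ded 3 7 0 false
    (.con 5 1 5 3)) (.alt (.ded 4 5 5 false (.br 4 2 (.alt (.con 0 2 4 0) (.alt (.con 1 2 4 1)
    (.alt (.con 2 2 4 2) (.alt (.con 3 2 4 5) (.alt (.ded 4 1 1 false (.con 4 1 3 4)) (.alt (.con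
    5 2 4 3) (.new (.ded 6 1 3 false (.ded 6 3 3 false (.ded 6 4 3 false (.ded 6 0 0 false (.ded
    5 0 0 false (.ded 4 0 0 false (.ded 3 0 0 false (.ded 2 0 0 false (.ded 1 0 0 false (.ded 0 0
    0 false .closed))))))))))))))))))) (.new (.br 4 2 (.alt (.con 0 2 4 0) (.alt (.con 1 2 4 1)
    (.alt (.con 2 2 4 2) (.alt (.con 3 2 4 5) (.alt (.ded 4 1 1 false (.con 4 1 3 4)) (.alt (.con
    5 2 4 3) (.alt (.ded 6 1 3 false (.ded 4 3 1 false (.ded 4 7 2 false (.con 5 1 5 4)))) (.new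
    (.ded 7 1 3 false (.ded 7 4 3 false (.br 4 4 (.alt (.con 0 4 4 1) (.alt (.con 1 4 4 0) (.alt
    (.con 2 4 4 2) (.alt (.con 3 4 4 6) (.alt (.ded 6 5 4 false (.ded 3 7 8 false (.con 3 2 5
    6))) (.alt (.ded 4 3 0 false (.con 4 2 7 6)) (.alt (.con 6 4 4 3) (.alt (.ded 4 5 0 false
    (.con 4 1 3 6)) (.new (.br 5 4 (.alt (.con 0 4 5 1) (.alt (.con 1 4 5 0) (.alt (.con 2 4 5 2)
    (.alt (.con 3 4 5 6) (.alt (.con 4 4 5 8) (.alt (.ded 5 3 0 false (.con 5 2 3 6)) (.alt (.con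
    6 4 5 3) (.alt (.ded 5 3 0 false (.con 5 2 3 8)) (.alt (.con 8 4 5 4) (.new (.ded 6 3 2 false
    (.br 6 1 (.alt (.con 0 1 6 0) (.alt (.con 1 1 6 2) (.alt (.con 2 1 6 1) (.alt (.con 3 1 6 4)
    (.alt (.con 4 1 6 3) (.alt (.con 5 1 6 5) (.alt (.ded 3 5 0 false (.con 3 1 4 8)) (.alt (.con
    7 1 6 7) (.alt (.ded 6 5 1 false (.con 8 4 4 6)) (.alt (.ded 6 5 1 false (.con 6 4 3 6))
    (.new (.br 6 3 (.alt (.con 0 3 6 0) (.alt (.con 1 3 6 3) (.alt (.con 2 3 6 4) (.alt (.con 3 3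
    6 1) (.alt (.con 4 3 6 2) (.alt (.con 5 3 6 5) (.alt (.ded 10 2 3 false (.br 7 4 (.alt (.con
    0 4 7 1) (.alt (.con 1 4 7 0) (.alt (.con 2 4 7 2) (.alt (.con 3 4 7 6) (.alt (.con 4 4 7 8)
    (.alt (.con 5 4 7 9) (.alt (.con 6 4 7 3) (.alt (.ded 7 3 0 false (.con 7 2 4 8)) (.alt (.con
    8 4 7 4) (.alt (.con 9 4 7 5) (.alt (.ded 7 5 0 false (.con 7 1 7 8)) (.new (.ded 8 3 2 false
    (.br 8 1 (.alt (.con 0 1 8 0) (.alt (.con 1 1 8 2) (.alt (.con 2 1 8 1) (.alt (.con 3 1 8 4)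
    (.alt (.con 4 1 8 3) (.alt (.con 5 1 8 5) (.alt (.con 6 1 8 10) (.alt (.con 7 1 8 7) (.alt
    (.ded 8 5 1 false (.con 8 4 4 10)) (.alt (.ded 8 5 1 false (.con 8 4 4 8)) (.alt (.con 10 1 8
    6) (.alt (.ded 8 5 1 false (.con 8 4 4 8)) (.new (.ded 10 7 3 false (.br 8 3 (.alt (.con 0 3
    8 0) (.alt (.con 1 3 8 3) (.alt (.con 2 3 8 4) (.alt (.con 3 3 8 1) (.alt (.con 4 3 8 2)
    (.alt (.con 5 3 8 5) (.alt (.con 6 3 8 6) (.alt (.con 7 3 8 7) (.alt (.ded 12 2 3 false (.ded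
    12 4 0 false (.con 12 2 10 12))) (.alt (.ded 8 4 0 false (.con 8 2 11 8)) (.alt (.con 10 3 8
    10) (.alt (.ded 8 6 5 true (.con 8 1 12 11)) (.alt (.ded 8 4 0 false (.con 8 2 11 8)) (.new
    (.br 9 1 (.alt (.con 0 1 9 0) (.alt (.con 1 1 9 2) (.alt (.con 2 1 9 1) (.alt (.con 3 1 9 4)
    (.alt (.con 4 1 9 3) (.alt (.con 5 1 9 5) (.alt (.con 6 1 9 10) (.alt (.con 7 1 9 7) (.alt
    (.con 8 1 9 12) (.alt (.ded 6 1 7 false (.con 6 1 10 11)) (.alt (.con 10 1 9 6) (.alt (.ded 9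
    1 0 false (.con 11 2 8 9)) (.alt (.con 12 1 9 8) (.alt (.ded 9 2 1 false (.ded 6 6 8 false
    (.con 6 2 9 13))) (.new (.br 9 3 (.alt (.con 0 3 9 0) (.alt (.con 1 3 9 3) (.alt (.con 2 3 9
    4) (.alt (.con 3 3 9 1) (.alt (.con 4 3 9 2) (.alt (.con 5 3 9 5) (.alt (.con 6 3 9 6) (.alt
    (.con 7 3 9 7) (.alt (.con 8 3 9 13) (.alt (.ded 9 4 0 false (.con 9 2 6 9)) (.alt (.con 10 3
    9 10) (.alt (.ded 6 4 4 false (.con 6 2 9 13)) (.alt (.ded 9 2 0 false (.con 9 1 14 13))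
    (.alt (.con 13 3 9 8) (.alt (.ded 14 4 2 false (.ded 10 6 6 false (.con 10 3 10 12)))
    .full))))))))))))))))))))))))))))))))))))))))))))))))))))))))))))))))))))))))))))) (.alt
    (.con 7 3 6 7) (.alt (.br 7 4 (.alt (.con 0 4 7 1) (.alt (.con 1 4 7 0) (.alt (.con 2 4 7 2)
    (.alt (.con 3 4 7 6) (.alt (.con 4 4 7 8) (.alt (.con 5 4 7 9) (.alt (.con 6 4 7 3) (.alt
    (.ded 7 3 0 false (.con 7 2 4 8)) (.alt (.con 8 4 7 4) (.alt (.con 9 4 7 5) (.alt (.ded 7 5 0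
    false (.con 7 1 7 8)) (.new (.ded 8 3 2 false (.br 8 1 (.alt (.con 0 1 8 0) (.alt (.con 1 1 8
    2) (.alt (.con 2 1 8 1) (.alt (.con 3 1 8 4) (.alt (.con 4 1 8 3) (.alt (.con 5 1 8 5) (.alt
    (.con 6 1 8 10) (.alt (.con 7 1 8 7) (.alt (.ded 8 2 1 false (.con 8 3 6 10)) (.alt (.ded 8 5
    1 false (.con 8 4 4 8)) (.alt (.con 10 1 8 6) (.alt (.ded 8 5 1 false (.con 8 4 4 8)) (.new
    (.ded 10 2 3 false (.ded 10 7 3 false (.br 9 1 (.alt (.con 0 1 9 0) (.alt (.con 1 1 9 2)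
    (.alt (.con 2 1 9 1) (.alt (.con 3 1 9 4) (.alt (.con 4 1 9 3) (.alt (.con 5 1 9 5) (.alt
    (.con 6 1 9 10) (.alt (.con 7 1 9 7) (.alt (.con 8 1 9 12) (.alt (.ded 6 1 7 false (.con 6 1
    10 11)) (.alt (.con 10 1 9 6) (.alt (.ded 9 1 0 false (.con 11 2 8 9)) (.alt (.con 12 1 9 8)
    (.new (.ded 11 6 6 true (.br 9 3 (.alt (.con 0 3 9 0) (.alt (.con 1 3 9 3) (.alt (.con 2 3 9
    4) (.alt (.con 3 3 9 1) (.alt (.con 4 3 9 2) (.alt (.con 5 3 9 5) (.alt (.con 6 3 9 8) (.alt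
    (.con 7 3 9 7) (.alt (.con 8 3 9 6) (.alt (.ded 9 2 0 false (.con 9 1 13 11)) (.alt (.con 10
    3 9 12) (.alt (.con 11 3 9 13) (.alt (.con 12 3 9 10) (.alt (.con 13 3 9 11) (.new (.pw [3,
    4] (.ded 0 0 0 false (.con 8 4 4
    0))))))))))))))))))))))))))))))))))))))))))))))))))))))))))))))))) (.alt (.br 7 4 (.alt (.con
    0 4 7 1) (.alt (.con 1 4 7 0) (.alt (.con 2 4 7 2) (.alt (.con 3 4 7 6) (.alt (.con 4 4 7 8)
    (.alt (.con 5 4 7 9) (.alt (.con 6 4 7 3) (.alt (.ded 7 3 0 false (.con 7 2 4 8)) (.alt (.con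
    8 4 7 4) (.alt (.con 9 4 7 5) (.alt (.ded 7 5 0 false (.con 7 1 7 8)) (.new (.ded 8 3 2 false
    (.br 8 1 (.alt (.con 0 1 8 0) (.alt (.con 1 1 8 2) (.alt (.con 2 1 8 1) (.alt (.con 3 1 8 4)
    (.alt (.con 4 1 8 3) (.alt (.con 5 1 8 5) (.alt (.con 6 1 8 10) (.alt (.con 7 1 8 7) (.alt
    (.ded 8 5 1 false (.con 8 4 4 10)) (.alt (.ded 8 5 1 false (.con 8 4 4 8)) (.alt (.con 10 1 8
    6) (.alt (.ded 8 5 1 false (.con 8 4 4 8)) (.new (.ded 10 5 3 false (.ded 10 7 3 false (.br 8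
    3 (.alt (.con 0 3 8 0) (.alt (.con 1 3 8 3) (.alt (.con 2 3 8 4) (.alt (.con 3 3 8 1) (.alt
    (.con 4 3 8 2) (.alt (.con 5 3 8 5) (.alt (.con 6 3 8 9) (.alt (.con 7 3 8 7) (.alt (.ded 8 6
    0 false (.con 8 1 12 11)) (.alt (.con 9 3 8 6) (.alt (.ded 8 2 0 false (.con 8 1 12 9)) (.alt
    (.ded 11 6 1 true (.ded 11 2 3 false (.con 11 3 8 12))) (.alt (.ded 12 6 3 true (.con 12 1 8
    11)) (.new (.ded 11 6 1 true (.ded 11 2 3 false (.ded 13 5 1 false (.br 9 1 (.alt (.con 0 1 9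
    0) (.alt (.con 1 1 9 2) (.alt (.con 2 1 9 1) (.alt (.con 3 1 9 4) (.alt (.con 4 1 9 3) (.alt
    (.con 5 1 9 5) (.alt (.con 6 1 9 10) (.alt (.con 7 1 9 7) (.alt (.con 8 1 9 12) (.alt (.ded 9
    1 0 false (.con 9 2 6 13)) (.alt (.con 10 1 9 6) (.alt (.con 11 1 9 13) (.alt (.con 12 1 9 8)
    (.alt (.con 13 1 9 11) (.new (.ded 10 2 3 false (.ded 14 5 3 false (.pw [1, 3, 4, 3, 4] (.ded
    0 0 0 false (.con 8 4 4
    0))))))))))))))))))))))))))))))))))))))))))))))))))))))))))))))))))))) (.alt (.br 7 4 (.alt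
    (.con 0 4 7 1) (.alt (.con 1 4 7 0) (.alt (.con 2 4 7 2) (.alt (.con 3 4 7 6) (.alt (.con 4 4
    7 8) (.alt (.con 5 4 7 9) (.alt (.con 6 4 7 3) (.alt (.ded 7 3 0 false (.con 7 2 4 8)) (.alt
    (.con 8 4 7 4) (.alt (.con 9 4 7 5) (.alt (.ded 7 5 0 false (.con 7 1 7 8)) (.new (.ded 8 3 2
    false (.br 8 1 (.alt (.con 0 1 8 0) (.alt (.con 1 1 8 2) (.alt (.con 2 1 8 1) (.alt (.con 3 1
    8 4) (.alt (.con 4 1 8 3) (.alt (.con 5 1 8 5) (.alt (.con 6 1 8 10) (.alt (.con 7 1 8 7)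
    (.alt (.ded 8 5 1 false (.con 8 4 4 10)) (.alt (.ded 8 5 1 false (.con 8 4 4 8)) (.alt (.con
    10 1 8 6) (.alt (.ded 8 5 1 false (.con 8 4 4 8)) (.new (.ded 10 7 3 false (.br 8 3 (.alt
    (.con 0 3 8 0) (.alt (.con 1 3 8 3) (.alt (.con 2 3 8 4) (.alt (.con 3 3 8 1) (.alt (.con 4 3
    8 2) (.alt (.con 5 3 8 5) (.alt (.con 6 3 8 10) (.alt (.con 7 3 8 7) (.alt (.ded 12 2 3 false
    (.ded 10 4 5 false (.con 10 3 6 9))) (.alt (.ded 11 4 5 false (.ded 9 6 1 true (.ded 9 2 0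
    false (.con 9 1 9 11)))) (.alt (.con 10 3 8 6) (.alt (.ded 10 6 3 true (.con 10 1 6 9)) (.alt
    (.ded 11 4 5 false (.br 9 1 (.alt (.con 0 1 9 0) (.alt (.con 1 1 9 2) (.alt (.con 2 1 9 1)
    (.alt (.con 3 1 9 4) (.alt (.con 4 1 9 3) (.alt (.con 5 1 9 5) (.alt (.con 6 1 9 10) (.alt
    (.con 7 1 9 7) (.alt (.con 8 1 9 12) (.alt (.ded 6 1 7 false (.con 6 1 10 11)) (.alt (.con 10
    1 9 6) (.alt (.ded 9 1 0 false (.con 11 2 8 9)) (.alt (.con 12 1 9 8) (.new (.ded 13 6 8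
    false (.ded 13 6 2 false (.con 13 1 9 11))))))))))))))))))) (.new (.br 9 1 (.alt (.con 0 1 9
    0) (.alt (.con 1 1 9 2) (.alt (.con 2 1 9 1) (.alt (.con 3 1 9 4) (.alt (.con 4 1 9 3) (.alt
    (.con 5 1 9 5) (.alt (.con 6 1 9 10) (.alt (.con 7 1 9 7) (.alt (.con 8 1 9 12) (.alt (.ded 6
    1 7 false (.con 6 1 10 11)) (.alt (.con 10 1 9 6) (.alt (.ded 9 1 0 false (.con 11 2 8 9))
    (.alt (.con 12 1 9 8) (.alt (.ded 9 2 1 false (.ded 6 6 8 false (.con 6 2 9 13))) (.new (.br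
    9 3 (.alt (.con 0 3 9 0) (.alt (.con 1 3 9 3) (.alt (.con 2 3 9 4) (.alt (.con 3 3 9 1) (.alt
    (.con 4 3 9 2) (.alt (.con 5 3 9 5) (.alt (.con 6 3 9 10) (.alt (.con 7 3 9 7) (.alt (.con 8
    3 9 13) (.alt (.ded 6 4 5 false (.con 6 3 10 12)) (.alt (.con 10 3 9 6) (.alt (.ded 10 4 4
    false (.con 10 2 12 13)) (.alt (.ded 9 2 0 false (.con 9 1 14 13)) (.alt (.con 13 3 9 8)
    (.alt (.ded 12 6 2 false (.con 12 1 8 13))
    .full)))))))))))))))))))))))))))))))))))))))))))))))))))))))))))))))))))))))))))) (.new (.br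
    7 4 (.alt (.con 0 4 7 1) (.alt (.con 1 4 7 0) (.alt (.con 2 4 7 2) (.alt (.con 3 4 7 6) (.alt
    (.con 4 4 7 8) (.alt (.con 5 4 7 9) (.alt (.con 6 4 7 3) (.alt (.ded 7 3 0 false (.con 7 2 4
    8)) (.alt (.con 8 4 7 4) (.alt (.con 9 4 7 5) (.alt (.ded 7 5 0 false (.con 7 1 7 8)) (.alt
    (.ded 8 3 2 false (.br 8 1 (.alt (.con 0 1 8 0) (.alt (.con 1 1 8 2) (.alt (.con 2 1 8 1)
    (.alt (.con 3 1 8 4) (.alt (.con 4 1 8 3) (.alt (.con 5 1 8 5) (.alt (.con 6 1 8 10) (.alt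
    (.con 7 1 8 7) (.alt (.ded 8 5 1 false (.con 8 4 4 10)) (.alt (.ded 8 5 1 false (.con 8 4 4
    8)) (.alt (.con 10 1 8 6) (.alt (.ded 8 5 1 false (.con 8 4 4 8)) (.new (.ded 10 7 3 false
    (.ded 11 6 0 false (.ded 8 6 8 true (.con 8 1 12 9))))))))))))))))))) (.new (.ded 8 3 2 false
    (.br 8 1 (.alt (.con 0 1 8 0) (.alt (.con 1 1 8 2) (.alt (.con 2 1 8 1) (.alt (.con 3 1 8 4)
    (.alt (.con 4 1 8 3) (.alt (.con 5 1 8 5) (.alt (.con 6 1 8 10) (.alt (.con 7 1 8 7) (.alt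
    (.ded 8 5 1 false (.con 8 4 4 10)) (.alt (.ded 8 5 1 false (.con 8 4 4 8)) (.alt (.con 10 1 8
    6) (.alt (.ded 8 2 1 false (.ded 10 7 3 false (.br 9 1 (.alt (.con 0 1 9 0) (.alt (.con 1 1 9
    2) (.alt (.con 2 1 9 1) (.alt (.con 3 1 9 4) (.alt (.con 4 1 9 3) (.alt (.con 5 1 9 5) (.alt
    (.con 6 1 9 10) (.alt (.con 7 1 9 7) (.alt (.con 8 1 9 11) (.alt (.ded 6 1 7 false (.con 6 1
    10 12)) (.alt (.con 10 1 9 6) (.alt (.con 11 1 9 8) (.alt (.ded 9 1 0 false (.con 12 2 8 9))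
    (.new (.br 12 1 (.alt (.con 0 1 12 0) (.alt (.con 1 1 12 2) (.alt (.con 2 1 12 1) (.alt (.con
    3 1 12 4) (.alt (.con 4 1 12 3) (.alt (.con 5 1 12 5) (.alt (.con 6 1 12 10) (.alt (.con 7 1
    12 7) (.alt (.con 8 1 12 11) (.alt (.con 9 1 12 13) (.alt (.con 10 1 12 6) (.alt (.con 11 1
    12 8) (.alt (.ded 12 1 0 false (.con 12 2 8 13)) (.alt (.con 13 1 12 9) (.new (.pw [1, 3, 4]
    (.ded 0 0 0 false (.con 6 4 3 0)))))))))))))))))))))))))))))))))))) (.alt (.ded 8 5 1 false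
    (.con 8 4 4 8)) (.new (.ded 10 5 3 false (.ded 10 7 3 false (.br 8 3 (.alt (.con 0 3 8 0)
    (.alt (.con 1 3 8 3) (.alt (.con 2 3 8 4) (.alt (.con 3 3 8 1) (.alt (.con 4 3 8 2) (.alt
    (.con 5 3 8 5) (.alt (.con 6 3 8 11) (.alt (.con 7 3 8 7) (.alt (.ded 13 2 3 false (.br 9 1
    (.alt (.con 0 1 9 0) (.alt (.con 1 1 9 2) (.alt (.con 2 1 9 1) (.alt (.con 3 1 9 4) (.alt
    (.con 4 1 9 3) (.alt (.con 5 1 9 5) (.alt (.con 6 1 9 10) (.alt (.con 7 1 9 7) (.alt (.con 8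
    1 9 13) (.alt (.ded 6 1 7 false (.con 6 1 10 12)) (.alt (.con 10 1 9 6) (.alt (.ded 9 2 1
    false (.ded 13 6 10 false (.con 13 2 10 11))) (.alt (.ded 9 1 0 false (.con 12 2 8 9)) (.alt
    (.con 13 1 9 8) (.new (.ded 9 6 6 true (.br 10 3 (.alt (.con 0 3 10 0) (.alt (.con 1 3 10 3)
    (.alt (.con 2 3 10 4) (.alt (.con 3 3 10 1) (.alt (.con 4 3 10 2) (.alt (.con 5 3 10 5) (.alt
    (.con 6 3 10 11) (.alt (.con 7 3 10 7) (.alt (.con 8 3 10 8) (.alt (.con 9 3 10 14) (.alt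
    (.ded 10 2 0 false (.con 10 1 6 11)) (.alt (.con 11 3 10 6) (.alt (.ded 10 4 0 false (.con 10
    2 13 10)) (.alt (.con 13 3 10 13) (.alt (.con 14 3 10 9)
    .full)))))))))))))))))))))))))))))))))) (.alt (.ded 9 6 1 true (.ded 9 2 3 false (.con 9 3 8
    13))) (.alt (.ded 8 2 0 false (.con 8 1 13 11)) (.alt (.con 11 3 8 6) (.alt (.ded 9 6 1 true
    (.ded 10 2 3 false (.ded 11 5 1 false (.br 11 2 (.alt (.con 0 2 11 0) (.alt (.con 1 2 11 1)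
    (.alt (.con 2 2 11 2) (.alt (.con 3 2 11 5) (.alt (.con 4 2 11 7) (.alt (.con 5 2 11 3) (.alt
    (.con 6 2 11 9) (.alt (.con 7 2 11 4) (.alt (.con 8 2 11 12) (.alt (.con 9 2 11 6) (.alt
    (.con 10 2 11 13) (.alt (.ded 11 1 1 false (.con 11 1 9 12)) (.alt (.con 12 2 11 8) (.alt
    (.con 13 2 11 10) (.new (.ded 12 1 3 false (.ded 14 3 3 false (.ded 13 4 3 false (.ded 14 0 0
    false (.ded 13 0 0 false (.ded 12 0 0 false (.ded 11 0 0 false (.ded 10 0 0 false (.ded 9 0 0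
    false (.ded 8 0 0 false (.ded 7 0 0 false (.ded 6 0 0 false (.ded 5 0 0 false (.ded 4 0 0
    false (.ded 3 0 0 false (.ded 2 0 0 false (.ded 1 0 0 false (.ded 0 0 0 false (.leaf
    0)))))))))))))))))))))))))))))))))))))) (.alt (.br 9 1 (.alt (.con 0 1 9 0) (.alt (.con 1 1 9
    2) (.alt (.con 2 1 9 1) (.alt (.con 3 1 9 4) (.alt (.con 4 1 9 3) (.alt (.con 5 1 9 5) (.alt
    (.con 6 1 9 10) (.alt (.con 7 1 9 7) (.alt (.con 8 1 9 13) (.alt (.ded 6 1 7 false (.con 6 1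
    10 12)) (.alt (.con 10 1 9 6) (.alt (.ded 9 2 1 false (.ded 8 6 10 false (.con 8 2 12 11)))
    (.alt (.ded 9 1 0 false (.con 12 2 8 9)) (.alt (.con 13 1 9 8) (.new (.ded 14 6 1 false (.ded
    9 2 3 false (.br 10 3 (.alt (.con 0 3 10 0) (.alt (.con 1 3 10 3) (.alt (.con 2 3 10 4) (.alt
    (.con 3 3 10 1) (.alt (.con 4 3 10 2) (.alt (.con 5 3 10 5) (.alt (.con 6 3 10 11) (.alt
    (.con 7 3 10 7) (.alt (.con 8 3 10 13) (.alt (.con 9 3 10 9) (.alt (.ded 10 2 0 false (.con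
    10 1 6 11)) (.alt (.con 11 3 10 6) (.alt (.ded 10 4 0 false (.con 12 2 8 10)) (.alt (.con 13
    3 10 8) (.alt (.con 14 3 10 14) .full)))))))))))))))))))))))))))))))))) (.new (.br 9 1 (.alt
    (.con 0 1 9 0) (.alt (.con 1 1 9 2) (.alt (.con 2 1 9 1) (.alt (.con 3 1 9 4) (.alt (.con 4 1
    9 3) (.alt (.con 5 1 9 5) (.alt (.con 6 1 9 10) (.alt (.con 7 1 9 7) (.alt (.con 8 1 9 13)
    (.alt (.ded 6 1 7 false (.con 6 1 10 12)) (.alt (.con 10 1 9 6) (.alt (.ded 8 6 6 false (.con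
    8 3 14 12)) (.alt (.ded 9 1 0 false (.con 12 2 8 9)) (.alt (.con 13 1 9 8) (.alt (.ded 9 2 1
    false (.ded 6 6 8 false (.con 6 2 9 14)))
    .full))))))))))))))))))))))))))))))))))))))))))))))))))))))))))))))))))))))))))))))))))))))))))))))))))))))))))))))))))))))))))))))))))))))))))))))))))))))))))))))))) = true := by
  decide +kernel

theorem faithful_of_core [Finite G] {H : Subgroup G} (hH : H.normalCore = ⊥) {x : ℕ → G ⧸ H}
    {N : ℕ} (hN : Nat.card (G ⧸ H) = N) (hx : Inj x N) (g : G) (hg : ∀ i < N, g • x i = x i) :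
    g = 1 := by
  subst hN
  rw [← Subgroup.mem_bot, ← hH, Subgroup.normalCore_eq_ker, MonoidHom.mem_ker]
  ext p
  obtain ⟨j, hj, rfl⟩ := exists_eq_of_inj hx p
  exact hg j hj

theorem search_coset [Finite G] {b c s t : G} (h : Amal b c s t)
    (hG : Subgroup.closure {b, c, s, t} = ⊤) {H : Subgroup G} (hb : b ∈ H) (hc : c ∈ H)
    (hs : s ∈ H) {N M : ℕ} {T : List (List (List ℕ))} (hN : H.index = N) (hM : Nat.card G = M)
    {tr : Tr} (ht : start ⟨5, N, 17230332160, M, [M], T⟩ [1, 2, 3] relsD tr = true) :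
    ∃ k < T.length, ∃ x : ℕ → G ⧸ H, Inj x N ∧
      Tab (ev4 b c s t) x 5 N (ent ⟨5, N, 17230332160, M, [M], T⟩ k) := by
  have h1 : ∀ g : G, g ^ M = 1 := fun g => hM ▸ pow_card_eq_one'
  refine search_sound (P := ⟨5, N, 17230332160, M, [M], T⟩) (good_ev4 h.bb h.cc h.ss h.tt)
    ((closure_ev4 b c s t).trans hG) hN h1 (fun g _ _ => ⟨M, List.mem_singleton_self _, h1 g⟩)
    h.rels ((1 : G) : G ⧸ H) ?_ ht
  have h2 : ∀ g ∈ H, g • ((1 : G) : G ⧸ H) = ((1 : G) : G ⧸ H) := fun g hg => by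
    rw [MulAction.Quotient.smul_mk, QuotientGroup.eq]; simpa using hg
  intro l hl
  simp only [List.mem_cons, List.not_mem_nil, or_false] at hl
  rcases hl with rfl | rfl | rfl
  exacts [h2 b hb, h2 c hc, h2 s hs]

theorem card_SL3_two : Nat.card (Matrix.SpecialLinearGroup (Fin 3) (ZMod 2)) = 168 := by
  have h := H3.card_SL_mul (n := Fin 3) (F := ZMod 2)
  rw [Matrix.card_GL_field, Nat.card_units] at h
  simpa [Fin.prod_univ_three] using h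

/-- The points of the projective plane of order two. -/
def pts7 (i : ℕ) : Fin 3 → ZMod 2 :=
  [![0, 0, 1], ![0, 1, 0], ![0, 1, 1], ![1, 0, 0], ![1, 0, 1], ![1, 1, 1], ![1, 1, 0]].getD i 0

/-- Generators of `SL₃(2)`. -/
def gen7 (k : ℕ) : ℕ → Matrix.SpecialLinearGroup (Fin 3) (ZMod 2) :=
  ev4 ⟨!![1, 0, 0; 0, 1, 0; 1, 1, 1], by decide +kernel⟩
    ⟨!![1, 0, 0; 1, 1, 0; 1, 0, 1], by decide +kernel⟩
    ⟨!![0, 1, 0; 1, 0, 0; 0, 0, 1], by decide +kernel⟩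
    (if k = 0 then ⟨!![1, 0, 0; 0, 0, 1; 0, 1, 0], by decide +kernel⟩
      else ⟨!![1, 0, 0; 1, 0, 1; 1, 1, 0], by decide +kernel⟩)

theorem equiv_SL3_two [Finite G] {b c s t : G} (h : Amal b c s t)
    (hG : Subgroup.closure {b, c, s, t} = ⊤) {H : Subgroup G} (hb : b ∈ H) (hc : c ∈ H)
    (hs : s ∈ H) (hN : H.index = 7) (hM : Nat.card G = 168) (hH : H.normalCore = ⊥) :
    Nonempty (G ≃* Matrix.SpecialLinearGroup (Fin 3) (ZMod 2)) := by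
  obtain ⟨k, hk, x, hx, tx⟩ := search_coset h hG hb hc hs hN hM start7
  have ty : ∀ k < 2, ∀ i < 7, ∀ l < 5, ent par7 k i l < 7 ∧
      pts7 i = gen7 k l • pts7 (ent par7 k i l) := by decide +kernel
  obtain ⟨θ, hθ⟩ := exists_injective_hom (ev' := gen7 k) (y := pts7)
    ((closure_ev4 b c s t).trans hG) hx (by unfold Inj; decide +kernel) tx
    (fun i hi l hl => ⟨(ty k hk i hi l hl).1, inv_smul_eq_iff.mpr (ty k hk i hi l hl).2⟩)
    (faithful_of_core hH hN hx) (fun g hg => by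
      have key : ∀ a : Fin 3, ∃ i < 7, pts7 i = Pi.single a 1 := by decide +kernel
      ext a j
      obtain ⟨i, hi, e⟩ := key j
      have := congrFun (hg i hi) a
      rw [e, Matrix.SpecialLinearGroup.smul_def, Matrix.smul_eq_mulVec,
        Matrix.mulVec_single_one] at this
      simpa [Matrix.one_apply, Pi.single_apply] using this)
  exact ⟨MulEquiv.ofBijective θ ((Nat.bijective_iff_injective_and_card θ).2
    ⟨hθ, hM.trans card_SL3_two.symm⟩)⟩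

/-- The pairs of six points. -/
def pts15 (i : ℕ) : Finset (Fin 6) :=
  [{0, 1}, {3, 4}, {2, 5}, {3, 5}, {2, 4}, {4, 5}, {0, 5}, {2, 3}, {1, 2}, {1, 5}, {0, 4}, {1, 4},
    {0, 2}, {1, 3}, {0, 3}].getD i ∅

/-- Generators of `A₆`. -/
def gen15 : ℕ → alternatingGroup (Fin 6) :=
  ev4 ⟨swap 2 3 * swap 4 5, by simp⟩ ⟨swap 0 1 * swap 3 4, by simp⟩
    ⟨swap 0 1 * swap 4 5, by simp⟩ ⟨swap 0 3 * swap 1 4, by simp⟩

open scoped Pointwise in
theorem equiv_alt_six [Finite G] {b c s t : G} (h : Amal b c s t)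
    (hG : Subgroup.closure {b, c, s, t} = ⊤) {H : Subgroup G} (hb : b ∈ H) (hc : c ∈ H)
    (hs : s ∈ H) (hN : H.index = 15) (hM : Nat.card G = 360) (hH : H.normalCore = ⊥) :
    Nonempty (G ≃* alternatingGroup (Fin 6)) := by
  obtain ⟨k, hk, x, hx, tx⟩ := search_coset h hG hb hc hs hN hM start15
  obtain rfl : k = 0 := by simpa using hk
  have ty : ∀ i < 15, ∀ l < 5, ent par15 0 i l < 15 ∧
      pts15 i = gen15 l • pts15 (ent par15 0 i l) := by decide +kernel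
  obtain ⟨θ, hθ⟩ := exists_injective_hom (ev' := gen15) (y := pts15)
    ((closure_ev4 b c s t).trans hG) hx (by unfold Inj; decide +kernel) tx
    (fun i hi l hl => ⟨(ty i hi l hl).1, inv_smul_eq_iff.mpr (ty i hi l hl).2⟩)
    (faithful_of_core hH hN hx) (fun g hg => by
      have key : ∀ a : Fin 6, ∃ i < 15, ∃ j < 15, a ∈ pts15 i ∧ a ∈ pts15 j ∧
        ∀ x ∈ pts15 i, x ∈ pts15 j → x = a := by decide +kernel
      ext a
      obtain ⟨i, hi, j, hj, h1, h2, h3⟩ := key a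
      exact congrArg Fin.val (h3 (g • a) (hg i hi ▸ Finset.smul_mem_smul_finset h1)
        (hg j hj ▸ Finset.smul_mem_smul_finset h2)))
  exact ⟨MulEquiv.ofBijective θ ((Nat.bijective_iff_injective_and_card θ).2
    ⟨hθ, hM.trans (by rw [nat_card_alternatingGroup]; simp [Nat.factorial])⟩)⟩

end Cfsg.H4.Low
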