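import Cfsg.Agent.H6.Word

/-!
# Certificates for searches of permutation actions of small degree

A search tree proves that every action on `N` points of a group with given relators has one of
finitely many listed tables.
-/

set_option autoImplicit false

namespace Cfsg.H4.Low

open Cfsg.H6

/-- Search trees. -/
inductive Tr : Type
  | ded (i r k : ℕ) (b : Bool) (t : Tr) : Tr
  | con (i l j j' : ℕ) : Tr
  | pw (w : List ℕ) (t : Tr) : Tr
  | lp (i : ℕ) (w : List ℕ) (t : Tr) : Tr
  | leaf (k : ℕ) : Tr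
  | closed : Tr
  | br (i l : ℕ) (t : Tr) : Tr
  | alt (y n : Tr) : Tr
  | new (t : Tr) : Tr
  | full : Tr

/-- The fixed data of a search. -/
structure Par where
  K : ℕ
  N : ℕ
  inv : ℕ
  M : ℕ
  E : List ℕ
  T : List (List (List ℕ))

variable (P : Par)

/-- Position of the fact `i · l = j`. -/
def pos (i l j : ℕ) : ℕ := (i * P.K + l) * P.N + j

/-- Record a fact and its inverse. -/
def add (tab i l j : ℕ) : ℕ := tab ||| 2 ^ pos P i l j ||| 2 ^ pos P j (invL P.inv l) i

/-- The row of the facts `i · l = j`. -/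
def row (tab i l : ℕ) : ℕ := (tab >>> pos P i l 0) % 2 ^ P.N

/-- Follow a word. -/
def fol (tab : ℕ) : List ℕ → ℕ → Option ℕ
  | [], i => some i
  | l :: w, i => if row P tab i l = 0 ∨ P.K ≤ l then none else fol tab w (row P tab i l).log2

/-- A rotation of a relator or of its inverse. -/
def rot (R : List (List ℕ)) (r k : ℕ) (b : Bool) : List ℕ :=
  (if b then invW P.inv (R.getD r []) else R.getD r []).rotate k

/-- Entry of a listed table. -/
def ent (k i l : ℕ) : ℕ := ((P.T.getD k []).getD i []).getD l 0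

/-- The checker. In mode `1` the image of `i` under `l` is known to be none of the points below
`j`; in mode `2` the word `w` satisfies one of the power relations of `es`. -/
def chk : Tr → ℕ → ℕ → ℕ → ℕ → List ℕ → List ℕ → List (List ℕ) → ℕ → ℕ → Bool
  | .ded i r k b t, _, _, _, _, _, _, R, n, tab =>
      match (rot P R r k b).getLast?, fol P tab (rot P R r k b).dropLast i with
      | some l, some p => decide (i < n) && decide (l < P.K) && chk t 0 0 0 0 [] [] R n (add P tab p l i)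
      | _, _ => false
  | .con i l j j', _, _, _, _, _, _, _, _, tab =>
      decide (l < P.K) && decide (j < P.N) && decide (j' < P.N) && decide (j ≠ j') &&
        tab.testBit (pos P i l j) && tab.testBit (pos P i l j')
  | .pw w t, _, _, _, _, _, _, R, n, tab => chk t 0 0 0 0 [] [] (rp P.M w :: R) n tab
  | .lp i w t, _, _, _, _, _, _, R, n, tab =>
      decide (i < n) && (fol P tab w i == some i) && chk t 2 0 0 0 w P.E R n tab
  | .leaf k, _, _, _, _, _, _, _, n, tab =>
      decide (k < P.T.length) && decide (n = P.N) && (List.range P.N).all fun i =>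
        (List.range P.K).all fun l => decide (ent P k i l < P.N) && tab.testBit (pos P i l (ent P k i l))
  | .closed, _, _, _, _, _, _, _, n, tab =>
      decide (n < P.N) && (List.range n).all fun i => (List.range P.K).all fun l => row P tab i l != 0
  | .br i l t, _, _, _, _, _, _, R, n, tab =>
      decide (i < n) && decide (l < P.K) && chk t 1 i l 0 [] [] R n tab
  | .alt y t, m, i, l, j, w, es, R, n, tab =>
      match m, es with
      | 1, _ => decide (j < n) && chk y 0 0 0 0 [] [] R n (add P tab i l j) &&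
          chk t 1 i l (j + 1) [] [] R n tab
      | 2, e :: es => chk y 0 0 0 0 [] [] (rp e w :: R) n tab && chk t 2 0 0 0 w es R n tab
      | _, _ => false
  | .new t, m, i, l, j, _, _, R, n, tab =>
      decide (m = 1) && decide (j = n) && decide (n < P.N) &&
        chk t 0 0 0 0 [] [] R (n + 1) (add P tab i l n)
  | .full, m, _, _, j, _, es, _, n, _ =>
      (decide (m = 1) && decide (j = P.N) && decide (n = P.N)) || (decide (m = 2) && es == [])

variable {G : Type*} [Group G] {X : Type*} [MulAction G X]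

/-- The recorded facts hold for the labelling `x`. -/
def Val (ev : ℕ → G) (x : ℕ → X) (n tab : ℕ) : Prop :=
  ∀ i l j, l < P.K → j < P.N → tab.testBit (pos P i l j) = true →
    i < n ∧ j < n ∧ (ev l)⁻¹ • x i = x j

/-- The labelling `x` realises the table `T`. -/
def Tab (ev : ℕ → G) (x : ℕ → X) (K N : ℕ) (T : ℕ → ℕ → ℕ) : Prop :=
  ∀ i < N, ∀ l < K, T i l < N ∧ (ev l)⁻¹ • x i = x (T i l)

/-- The labelling is injective below `n`. -/
def Inj (x : ℕ → X) (n : ℕ) : Prop := ∀ i < n, ∀ j < n, x i = x j → i = j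

variable {P} {ev : ℕ → G} {x : ℕ → X} {n tab : ℕ}

theorem pos_inj {i l j i' l' j' : ℕ} (hl : l < P.K) (hj : j < P.N) (hl' : l' < P.K)
    (hj' : j' < P.N) (h : pos P i l j = pos P i' l' j') : i = i' ∧ l = l' ∧ j = j' := by
  unfold pos at h
  have h1 : j = j' := by
    have := congrArg (· % P.N) h
    simpa [Nat.mul_add_mod_of_lt hj, Nat.mul_add_mod_of_lt hj'] using this
  subst h1
  have h2 := Nat.eq_of_mul_eq_mul_right (by omega) (Nat.add_right_cancel h)
  have h3 : l = l' := by
    have := congrArg (· % P.K) h2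
    simpa [Nat.mul_add_mod_of_lt hl, Nat.mul_add_mod_of_lt hl'] using this
  subst h3
  exact ⟨Nat.eq_of_mul_eq_mul_right (by omega) (Nat.add_right_cancel h2), rfl, rfl⟩

theorem Val.add (hev : Good ev P.inv) (hK : ∀ l < P.K, invL P.inv l < P.K) (hn : n ≤ P.N)
    (h : Val P ev x n tab) {i l j : ℕ} (hi : i < n) (hl : l < P.K) (hj : j < n)
    (e : (ev l)⁻¹ • x i = x j) : Val P ev x n (add P tab i l j) := by
  intro i' l' j' hl' hj' h2
  simp only [Low.add, Nat.testBit_or, Bool.or_eq_true, Nat.testBit_two_pow,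
    decide_eq_true_eq] at h2
  rcases h2 with (h2 | h2) | h2
  · exact h i' l' j' hl' hj' h2
  · obtain ⟨rfl, rfl, rfl⟩ := pos_inj hl (by omega) hl' hj' h2
    exact ⟨hi, hj, e⟩
  · obtain ⟨rfl, rfl, rfl⟩ := pos_inj (hK l hl) (by omega) hl' hj' h2
    exact ⟨hj, hi, by rw [hev.inv, ← e, inv_inv, smul_inv_smul]⟩

theorem Val.row (h : Val P ev x n tab) {i l : ℕ} (hl : l < P.K) (h0 : row P tab i l ≠ 0) :
    (row P tab i l).log2 < n ∧ (ev l)⁻¹ • x i = x (row P tab i l).log2 := by
  have h1 := Nat.testBit_log2 h0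
  have h2 : (Low.row P tab i l).log2 < P.N :=
    (Nat.log2_lt h0).mpr (Nat.mod_lt _ (by positivity))
  generalize (Low.row P tab i l).log2 = j at h1 h2 ⊢
  simp only [Low.row, Nat.testBit_mod_two_pow, Nat.testBit_shiftRight, Bool.and_eq_true] at h1
  exact (h i l j hl h2 h1.2).2

theorem Val.fol (h : Val P ev x n tab) : ∀ (w : List ℕ) {i p : ℕ}, i < n →
    fol P tab w i = some p → p < n ∧ (evL ev w)⁻¹ • x i = x p
  | [], i, p, hi, h1 => by
    simp only [Low.fol, Option.some.injEq] at h1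
    subst h1
    exact ⟨hi, by simp [evL]⟩
  | l :: w, i, p, _, h1 => by
    simp only [Low.fol] at h1
    split_ifs at h1 with h2
    push Not at h2
    obtain ⟨h3, h4⟩ := h.row h2.2 h2.1
    obtain ⟨h5, h6⟩ := h.fol w h3 h1
    exact ⟨h5, by rw [evL_cons, mul_inv_rev, mul_smul, h4, h6]⟩

theorem evL_rot (hev : Good ev P.inv) {R : List (List ℕ)} (hR : ∀ r ∈ R, evL ev r = 1) (r k : ℕ)
    (b : Bool) : evL ev (rot P R r k b) = 1 := by
  have h1 : evL ev (R.getD r []) = 1 := by
    by_cases hr : r < R.length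
    · rw [List.getD_eq_getElem _ _ hr]; exact hR _ (List.getElem_mem hr)
    · rw [List.getD_eq_default _ _ (by omega)]; rfl
  unfold rot evL
  rw [List.map_rotate]
  apply List.prod_rotate_eq_one_of_prod_eq_one
  split_ifs
  · exact (evL_invW hev _).trans (by rw [h1, inv_one])
  · exact h1

theorem exists_eq_of_inj [Finite X] (hx : Inj x (Nat.card X)) (p : X) :
    ∃ j < Nat.card X, x j = p := by
  let f : Fin (Nat.card X) → X := fun i => x i
  have hf : Function.Injective f := fun i j h => Fin.ext (hx i i.2 j j.2 h)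
  obtain ⟨j, hj⟩ := (hf.bijective_of_nat_card_le (by simp)).2 p
  exact ⟨j, j.2, hj⟩

theorem chk_sound [Finite X] (hev : Good ev P.inv) (hK : ∀ l < P.K, invL P.inv l < P.K)
    (hN : Nat.card X = P.N) (hM : ∀ g : G, g ^ P.M = 1)
    (hE : ∀ (g : G) (p : X), g • p = p → ∃ e ∈ P.E, g ^ e = 1)
    (hcl : ∀ S : Set X, S.Nonempty → (∀ l < P.K, ∀ p ∈ S, (ev l)⁻¹ • p ∈ S) → S = Set.univ)
    (t : Tr) : ∀ (m i l j : ℕ) (w es : List ℕ) (R : List (List ℕ)) (n tab : ℕ) (x : ℕ → X),
      (∀ r ∈ R, evL ev r = 1) → Inj x n → 0 < n → n ≤ P.N → Val P ev x n tab →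
      (m = 1 → i < n ∧ l < P.K ∧ ∀ j' < j, (ev l)⁻¹ • x i ≠ x j') →
      (m = 2 → ∃ e ∈ es, evL ev w ^ e = 1) →
      chk P t m i l j w es R n tab = true →
      ∃ k < P.T.length, ∃ y : ℕ → X, Inj y P.N ∧ Tab ev y P.K P.N (ent P k) := by
  induction t with
  | ded i r k b t ih =>
    intro _ _ _ _ _ _ R n tab x hR hx h0 hn hv _ _ h
    simp only [chk] at h
    split at h
    · rename_i l p h1 h2
      simp only [Bool.and_eq_true, decide_eq_true_eq] at h
      obtain ⟨h3, h4⟩ := hv.fol _ h.1.1 h2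
      have h5 := evL_rot hev hR r k b
      rw [← List.dropLast_append_getLast? l h1, evL_append, evL_singleton] at h5
      refine ih 0 0 0 0 [] [] R n _ x hR hx h0 hn (hv.add hev hK hn h3 h.1.2 h.1.1 ?_)
        (by simp) (by simp) h.2
      rw [← h4, ← mul_smul, ← mul_inv_rev, h5, inv_one, one_smul]
    · simp at h
  | con i l j j' =>
    intro _ _ _ _ _ _ R n tab x _ hx _ _ hv _ _ h
    simp only [chk, Bool.and_eq_true, decide_eq_true_eq] at h
    obtain ⟨⟨⟨⟨⟨h1, h2⟩, h3⟩, h4⟩, h5⟩, h6⟩ := h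
    obtain ⟨-, a, b⟩ := hv i l j h1 h2 h5
    obtain ⟨-, c, d⟩ := hv i l j' h1 h3 h6
    exact absurd (hx j a j' c (b.symm.trans d)) h4
  | pw w t ih =>
    intro _ _ _ _ _ _ R n tab x hR hx h0 hn hv _ _ h
    refine ih 0 0 0 0 [] [] _ n _ x ?_ hx h0 hn hv (by simp) (by simp) h
    intro r hr
    rcases List.mem_cons.mp hr with rfl | hr
    · rw [evL_rp, hM]
    · exact hR r hr
  | lp i w t ih =>
    intro _ _ _ _ _ _ R n tab x hR hx h0 hn hv _ _ h
    simp only [chk, Bool.and_eq_true, decide_eq_true_eq, beq_iff_eq] at h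
    refine ih 2 0 0 0 w P.E R n _ x hR hx h0 hn hv (by simp) (fun _ => ?_) h.2
    obtain ⟨e, he, h1⟩ := hE _ _ (hv.fol w h.1.1 h.1.2).2
    exact ⟨e, he, by rwa [inv_pow, inv_eq_one] at h1⟩
  | leaf k =>
    intro _ _ _ _ _ _ R n tab x _ hx _ _ hv _ _ h
    simp only [chk, Bool.and_eq_true, decide_eq_true_eq, List.all_eq_true, List.mem_range] at h
    obtain ⟨⟨h1, rfl⟩, h2⟩ := h
    exact ⟨k, h1, x, hx, fun i hi l hl =>
      ⟨(h2 i hi l hl).1, (hv i l _ hl (h2 i hi l hl).1 (h2 i hi l hl).2).2.2⟩⟩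
  | closed =>
    intro _ _ _ _ _ _ R n tab x _ hx h0 _ hv _ _ h
    simp only [chk, Bool.and_eq_true, decide_eq_true_eq, List.all_eq_true, List.mem_range,
      bne_iff_ne] at h
    have h1 := hcl (x '' {i | i < n}) ⟨x 0, 0, h0, rfl⟩ (by
      rintro l hl _ ⟨i, hi, rfl⟩
      obtain ⟨h2, h3⟩ := hv.row hl (h.2 i hi l hl)
      exact ⟨_, h2, h3.symm⟩)
    have h2 : Nat.card X ≤ n := by
      have := Nat.card_le_card_of_surjective (fun i : Fin n => x i) fun p => by
        obtain ⟨i, hi, e⟩ : p ∈ x '' {i | i < n} := h1 ▸ Set.mem_univ p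
        exact ⟨⟨i, hi⟩, e⟩
      simpa using this
    omega
  | br i l t ih =>
    intro _ _ _ _ _ _ R n tab x hR hx h0 hn hv _ _ h
    simp only [chk, Bool.and_eq_true, decide_eq_true_eq] at h
    exact ih 1 i l 0 [] [] R n _ x hR hx h0 hn hv (fun _ => ⟨h.1.1, h.1.2, by simp⟩) (by simp) h.2
  | alt y t ihy iht =>
    intro m i l j w es R n tab x hR hx h0 hn hv h1 h2 h
    simp only [chk] at h
    split at h
    · simp only [Bool.and_eq_true, decide_eq_true_eq] at h
      obtain ⟨a, b, c⟩ := h1 rfl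
      by_cases e : (ev l)⁻¹ • x i = x j
      · exact ihy 0 0 0 0 [] [] R n _ x hR hx h0 hn (hv.add hev hK hn a b h.1.1 e) (by simp)
          (by simp) h.1.2
      · refine iht 1 i l (j + 1) [] [] R n _ x hR hx h0 hn hv (fun _ => ⟨a, b, fun j' hj' => ?_⟩)
          (by simp) h.2
        rcases Nat.lt_succ_iff_lt_or_eq.mp hj' with hj' | rfl
        · exact c j' hj'
        · exact e
    · rename_i e es
      simp only [Bool.and_eq_true] at h
      by_cases he : evL ev w ^ e = 1
      · refine ihy 0 0 0 0 [] [] _ n _ x ?_ hx h0 hn hv (by simp) (by simp) h.1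
        intro r hr
        rcases List.mem_cons.mp hr with rfl | hr
        · rw [evL_rp, he]
        · exact hR r hr
      · refine iht 2 0 0 0 w es R n _ x hR hx h0 hn hv (by simp) (fun _ => ?_) h.2
        obtain ⟨e', he', h3⟩ := h2 rfl
        rcases List.mem_cons.mp he' with rfl | he'
        · exact absurd h3 he
        · exact ⟨e', he', h3⟩
    · simp at h
  | new t ih =>
    intro m i l j w es R n tab x hR hx h0 hn hv h1 _ h
    simp only [chk, Bool.and_eq_true, decide_eq_true_eq] at h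
    obtain ⟨⟨⟨rfl, rfl⟩, h3⟩, h4⟩ := h
    obtain ⟨a, b, c⟩ := h1 rfl
    let x' := Function.update x j ((ev l)⁻¹ • x i)
    have hx' : ∀ k < j, x' k = x k := fun k hk => Function.update_of_ne hk.ne _ _
    have hxj : x' j = (ev l)⁻¹ • x i := Function.update_self _ _ _
    refine ih 0 0 0 0 [] [] R (j + 1) _ x' hR ?_ (by omega) h3
      (Val.add hev hK h3 ?_ (by omega) b (by omega) (by rw [hx' i a, hxj])) (by simp) (by simp) h4
    · intro p hp q hq e
      rcases Nat.lt_succ_iff_lt_or_eq.mp hp with hp | rfl <;>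
        rcases Nat.lt_succ_iff_lt_or_eq.mp hq with hq | rfl
      · rw [hx' p hp, hx' q hq] at e; exact hx p hp q hq e
      · rw [hx' p hp, hxj] at e; exact absurd e.symm (c p hp)
      · rw [hx' q hq, hxj] at e; exact absurd e (c q hq)
      · rfl
    · intro p l' q hl' hq e
      obtain ⟨d1, d2, d3⟩ := hv p l' q hl' hq e
      exact ⟨by omega, by omega, by rw [hx' p d1, hx' q d2, d3]⟩
  | full =>
    intro m i l j w es R n tab x hR hx h0 hn hv h1 h2 h
    simp only [chk, Bool.or_eq_true, Bool.and_eq_true, decide_eq_true_eq, beq_iff_eq] at h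
    rcases h with ⟨⟨rfl, rfl⟩, rfl⟩ | ⟨rfl, rfl⟩
    · obtain ⟨k, hk, e⟩ := exists_eq_of_inj (hN ▸ hx) ((ev l)⁻¹ • x i)
      exact absurd e.symm ((h1 rfl).2.2 k (hN ▸ hk))
    · simpa using h2 rfl

theorem eq_univ_of_closure [Finite G] [MulAction.IsPretransitive G X] {K : ℕ}
    (hG : Subgroup.closure {g | ∃ l < K, ev l = g} = ⊤) (S : Set X) (hS : S.Nonempty)
    (h : ∀ l < K, ∀ p ∈ S, (ev l)⁻¹ • p ∈ S) : S = Set.univ := by
  have key : ∀ g : G, ∀ p ∈ S, g⁻¹ • p ∈ S := by
    intro g
    have hg : g ∈ Subgroup.closure {g | ∃ l < K, ev l = g} := hG ▸ Subgroup.mem_top g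
    rw [← Subgroup.mem_toSubmonoid, Subgroup.closure_toSubmonoid_of_finite] at hg
    induction hg using Submonoid.closure_induction with
    | mem g hg => obtain ⟨l, hl, rfl⟩ := hg; exact h l hl
    | one => simp
    | mul a b _ _ ha hb => intro p hp; rw [mul_inv_rev, mul_smul]; exact hb _ (ha p hp)
  obtain ⟨p, hp⟩ := hS
  refine Set.eq_univ_of_forall fun q => ?_
  obtain ⟨g, rfl⟩ := MulAction.exists_smul_eq G p q
  simpa using key g⁻¹ p hp

/-- The search starts from one point fixed by the letters of `L`. -/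
def start (P : Par) (L : List ℕ) (R : List (List ℕ)) (t : Tr) : Bool :=
  decide (0 < P.N) && (List.range P.K).all (fun l => decide (invL P.inv l < P.K)) &&
    L.all (fun l => decide (l < P.K)) &&
      chk P t 0 0 0 0 [] [] R 1 (L.foldl (fun tab l => add P tab 0 l 0) 0)

theorem search_sound [Finite G] [Finite X] [MulAction.IsPretransitive G X] (hev : Good ev P.inv)
    (hG : Subgroup.closure {g | ∃ l < P.K, ev l = g} = ⊤)
    (hN : Nat.card X = P.N) (hM : ∀ g : G, g ^ P.M = 1)
    (hE : ∀ (g : G) (p : X), g • p = p → ∃ e ∈ P.E, g ^ e = 1) {R : List (List ℕ)}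
    (hR : ∀ r ∈ R, evL ev r = 1) {L : List ℕ} (x0 : X) (hL : ∀ l ∈ L, ev l • x0 = x0) {t : Tr}
    (h : start P L R t = true) :
    ∃ k < P.T.length, ∃ y : ℕ → X, Inj y P.N ∧ Tab ev y P.K P.N (ent P k) := by
  simp only [start, Bool.and_eq_true, decide_eq_true_eq, List.all_eq_true, List.mem_range] at h
  obtain ⟨⟨⟨h1, h2⟩, h3⟩, h4⟩ := h
  refine chk_sound hev h2 hN hM hE (eq_univ_of_closure hG) t 0 0 0 0 [] [] R 1 _ (fun _ => x0) hR
    (fun i hi j hj _ => by omega) one_pos h1 ?_ (by simp) (by simp) h4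
  have key : ∀ (L : List ℕ) (tab : ℕ), (∀ l ∈ L, l < P.K ∧ ev l • x0 = x0) →
      Val P ev (fun _ => x0) 1 tab →
      Val P ev (fun _ => x0) 1 (L.foldl (fun tab l => add P tab 0 l 0) tab) := by
    intro L
    induction L with
    | nil => exact fun _ _ h => h
    | cons l L ih =>
      intro tab hl hv
      refine ih _ (fun l' hl' => hl l' (List.mem_cons_of_mem _ hl'))
        (hv.add hev h2 h1 one_pos (hl l List.mem_cons_self).1 one_pos ?_)
      rw [inv_smul_eq_iff, (hl l List.mem_cons_self).2]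
  exact key L 0 (fun l hl => ⟨h3 l hl, hL l hl⟩) fun i l j _ _ h => by simp at h

/-- Two faithful actions with the same table give an embedding. -/
theorem exists_injective_hom {Γ Y : Type*} [Group Γ] [MulAction Γ Y] [Finite G] [Finite Γ]
    {ev' : ℕ → Γ} {y : ℕ → Y} {K N : ℕ} {T : ℕ → ℕ → ℕ}
    (hG : Subgroup.closure {g | ∃ l < K, ev l = g} = ⊤) (hx : Inj x N) (hy : Inj y N)
    (tx : Tab ev x K N T) (ty : Tab ev' y K N T) (fx : ∀ g : G, (∀ i < N, g • x i = x i) → g = 1)
    (fy : ∀ g : Γ, (∀ i < N, g • y i = y i) → g = 1) :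
    ∃ θ : G →* Γ, Function.Injective θ := by
  set D := Subgroup.closure {u : G × Γ | ∃ l < K, (ev l, ev' l) = u} with hD
  have key : ∀ u ∈ D, ∀ i < N, ∃ j < N, u.1⁻¹ • x i = x j ∧ u.2⁻¹ • y i = y j := by
    intro u hu
    rw [← Subgroup.mem_toSubmonoid, Subgroup.closure_toSubmonoid_of_finite] at hu
    induction hu using Submonoid.closure_induction with
    | mem g hg =>
      obtain ⟨l, hl, rfl⟩ := hg
      exact fun i hi => ⟨_, (tx i hi l hl).1, (tx i hi l hl).2, (ty i hi l hl).2⟩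
    | one => exact fun i hi => ⟨i, hi, by simp⟩
    | mul a b _ _ ha hb =>
      intro i hi
      obtain ⟨j, hj, h1, h2⟩ := ha i hi
      obtain ⟨k, hk, h3, h4⟩ := hb j hj
      exact ⟨k, hk, by rw [Prod.fst_mul, mul_inv_rev, mul_smul, h1, h3],
        by rw [Prod.snd_mul, mul_inv_rev, mul_smul, h2, h4]⟩
  let f : D →* G := (MonoidHom.fst G Γ).comp D.subtype
  let f' : D →* Γ := (MonoidHom.snd G Γ).comp D.subtype
  have hf : Function.Surjective f := by
    rw [← MonoidHom.range_eq_top, eq_top_iff, ← hG, Subgroup.closure_le]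
    rintro _ ⟨l, hl, rfl⟩
    exact ⟨⟨_, Subgroup.subset_closure ⟨l, hl, rfl⟩⟩, rfl⟩
  have hi : Function.Injective f := (injective_iff_map_eq_one f).mpr fun u hu => by
    have h1 : u.1.1 = 1 := hu
    refine Subtype.ext (Prod.ext h1 (inv_eq_one.mp (fy _ fun i hi => ?_)))
    obtain ⟨j, hj, h2, h3⟩ := key u.1 u.2 i hi
    rw [h1, inv_one, one_smul] at h2
    rw [h3, ← hx i hi j hj h2]
  have hi' : Function.Injective f' := (injective_iff_map_eq_one f').mpr fun u hu => by
    have h1 : u.1.2 = 1 := hu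
    refine Subtype.ext (Prod.ext (inv_eq_one.mp (fx _ fun i hi => ?_)) h1)
    obtain ⟨j, hj, h2, h3⟩ := key u.1 u.2 i hi
    rw [h1, inv_one, one_smul] at h3
    rw [h2, ← hy i hi j hj h3]
  let e := MulEquiv.ofBijective f ⟨hi, hf⟩
  exact ⟨f'.comp e.symm.toMonoidHom, hi'.comp e.symm.injective⟩

end Cfsg.H4.Low
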